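import Groth.Agent.GrpSchLib.HomUnitLocus
import Groth.Agent.GrpSchLib.MultTypeBC
import Groth.Agent.GrpSchLib.RankOneBase
import Groth.Agent.GrpSchLib.RankOneNonComm
import Groth.Agent.GrpSchLib.AntiAffineHom
import Groth.Agent.GrpSchLib.AffineHopf
import Groth.Agent.SgaFix20.DSMap
import Mathlib.RingTheory.Idempotents
import Mathlib.GroupTheory.Commutator.Basic

/-!
# Small facts about groups over a field used for centralizers of tori
-/

set_option autoImplicit false
set_option linter.style.haveILetI false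

universe u

open CategoryTheory CategoryTheory.Limits MonoidalCategory CartesianMonoidalCategory MonObj GrpObj AlgebraicGeometry

noncomputable section

namespace TorusCent19

open Groth.Agent

variable {k : Type u} [Field k]

local notation "𝕊" => Spec (CommRingCat.of k)

/-- Two rational points with the same underlying point are equal over an algebraically closed field. -/
theorem pt_eq_of_apply [IsAlgClosed k] {G : Over 𝕊} [LocallyOfFiniteType G.hom] {a b : 𝟙_ (Over 𝕊) ⟶ G}
    (h : a.left (IsLocalRing.closedPoint k) = b.left (IsLocalRing.closedPoint k)) : a = b :=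
  Over.OverMorphism.ext (ext_of_apply_closedPoint_eq G.hom (Over.w a) (Over.w b) h)

/-- Rational points lift along surjections. -/
theorem exists_point_lift [IsAlgClosed k] {Y C : Over 𝕊} [LocallyOfFiniteType Y.hom] [LocallyOfFiniteType C.hom]
    (π : Y ⟶ C) [Surjective π.left] (x : 𝟙_ (Over 𝕊) ⟶ C) : ∃ y : 𝟙_ (Over 𝕊) ⟶ Y, y ≫ π = x := by
  haveI : JacobsonSpace Y.left := LocallyOfFiniteType.jacobsonSpace Y.hom
  let pt : ↥(Spec (CommRingCat.of k)) := IsLocalRing.closedPoint k
  have hx : IsClosed ({x.left pt} : Set C.left) := ((pointEquivClosedPoint C.hom) ⟨x.left, Over.w x⟩).2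
  obtain ⟨a, ha⟩ := π.left.surjective (x.left pt)
  obtain ⟨b, hb, hbc⟩ := nonempty_inter_closedPoints (Z := π.left ⁻¹' {x.left pt}) ⟨a, ha⟩
    (hx.preimage π.left.continuous).isLocallyClosed
  let y : 𝟙_ (Over 𝕊) ⟶ Y := Over.homMk (pointOfClosedPoint Y.hom b hbc) (pointOfClosedPoint_comp Y.hom b hbc)
  refine ⟨y, pt_eq_of_apply ?_⟩
  rw [Over.comp_left, Scheme.Hom.comp_apply, show y.left pt = b from pointOfClosedPoint_apply Y.hom b hbc _]
  exact hb

/-- A factor through a monomorphism of groups is a homomorphism. -/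
theorem isMonHom_of_fac {A B C : Over 𝕊} [GrpObj A] [GrpObj B] [GrpObj C] (i : B ⟶ C) [IsMonHom i] [Mono i]
    (f : A ⟶ B) (j : A ⟶ C) [IsMonHom j] (h : f ≫ i = j) : IsMonHom f where
  one_hom := by rw [← cancel_mono i, Category.assoc, h, IsMonHom.one_hom, IsMonHom.one_hom]
  mul_hom := by
    rw [← cancel_mono i, Category.assoc, h, IsMonHom.mul_hom, Category.assoc, IsMonHom.mul_hom (f := i),
      ← Category.assoc (MonoidalCategoryStruct.tensorHom f f), MonoidalCategory.tensorHom_comp_tensorHom, h]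

/-- Centralizers are unique. -/
theorem exists_iso_of_centralizer {H G C C' : Over 𝕊} [GrpObj H] [GrpObj G] [GrpObj C] [GrpObj C']
    {i : H ⟶ G} {c : C ⟶ G} {c' : C' ⟶ G} (h : Red.IsCentralizerOf i c) (h' : Red.IsCentralizerOf i c') :
    ∃ e : C ≅ C', e.hom ≫ c' = c := by
  haveI := h.2.1
  haveI := h'.2.1
  obtain ⟨a, ha⟩ := (h'.2.2 C c).2 ((h.2.2 C c).1 ⟨𝟙 C, Category.id_comp c⟩)
  obtain ⟨b, hb⟩ := (h.2.2 C' c').2 ((h'.2.2 C' c').1 ⟨𝟙 C', Category.id_comp c'⟩)
  exact ⟨⟨a, b, by rw [← cancel_mono c, Category.assoc, hb, ha, Category.id_comp],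
    by rw [← cancel_mono c', Category.assoc, ha, hb, Category.id_comp]⟩, ha⟩

theorem connectedSpace_of_iso {C C' : Over 𝕊} (e : C ≅ C') [ConnectedSpace C.left] : ConnectedSpace C'.left :=
  (Scheme.homeoOfIso ((Over.forget _).mapIso e)).connectedSpace_iff.mp ‹_›

/-- A torus is of multiplicative type, in the fpqc-local form. -/
theorem torus_locally {T : Over 𝕊} [GrpObj T] (hT : Red.IsTorus T) :
    TwC.Locally 𝕊 TwC.Topology.fpqc (fun S' g => ∃ (M : Type) (_ : AddCommGroup M),
      Nonempty (Grp.mk (Red.bc g T) ≅ Grp.mk (Red.DS S' M))) := by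
  obtain ⟨S', f, h1, h2, h3, h4⟩ := GrpSchLib.RankOne.isMultTypeFT_of_isTorus hT
  refine ⟨S', f, h1, h2, h3, fun s' => ?_⟩
  obtain ⟨U, hU, M, i, -, he⟩ := h4 s'
  exact ⟨U, hU, M, i, he⟩

/-- The multiplicative group is a torus. -/
theorem isTorus_DS_int : Red.IsTorus (Red.DS 𝕊 ℤ) := by
  refine ⟨𝕊, 𝟙 _, inferInstance, inferInstance, fun V hV => ⟨V, hV.isCompact, by simp⟩,
    fun _ => ⟨⊤, trivial, 1, ?_⟩⟩
  obtain ⟨e⟩ := GrpSchLib.MultTypeBC.bc_DS ((⊤ : (Spec (CommRingCat.of k)).Opens).ι ≫ 𝟙 _) ℤ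
  let φ : ℤ ≃+ (Fin 1 → ℤ) :=
    { toFun := fun n _ => n
      invFun := fun v => v 0
      left_inv := fun _ => rfl
      right_inv := fun v => funext fun i => by rw [Subsingleton.elim i 0]
      map_add' := fun _ _ => rfl }
  let i : Red.DS ((⊤ : (Spec (CommRingCat.of k)).Opens) : Scheme.{u}) ℤ ≅ Red.DS _ (Fin 1 → ℤ) :=
    ⟨Red.DSmap _ φ.symm.toAddMonoidHom, Red.DSmap _ φ.toAddMonoidHom, by
      rw [SgaFix20.DSmap_comp, show φ.symm.toAddMonoidHom.comp φ.toAddMonoidHom = AddMonoidHom.id ℤ from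
        AddMonoidHom.ext fun x => φ.symm_apply_apply x, SgaFix20.DSmap_id], by
      rw [SgaFix20.DSmap_comp, show φ.toAddMonoidHom.comp φ.symm.toAddMonoidHom = AddMonoidHom.id _ from
        AddMonoidHom.ext fun x => φ.apply_symm_apply x, SgaFix20.DSmap_id]⟩
  haveI : IsMonHom i.hom := S5427.isMonHom_DSmap _ _
  exact ⟨e ≪≫ Grp.mkIso' i⟩

/-- An affine group of finite type is the spectrum of a finitely generated Hopf algebra. -/
theorem exists_coords (G : Over 𝕊) [GrpObj G] [IsAffine G.left] [LocallyOfFiniteType G.hom] :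
    ∃ (A : Type u) (_ : CommRing A) (_ : HopfAlgebra k A) (_ : Algebra.FiniteType k A)
      (eG : GrpSchLib.AffineHopf.sp k A ≅ G), IsMonHom eG.hom := by
  obtain ⟨A, _, _, ⟨t⟩⟩ := GrpSchLib.AffineHopf.exists_hopf G
  let e : GrpSchLib.AffineHopf.sp k A ≅ G := (Grp.forget _).mapIso t
  refine ⟨A, inferInstance, inferInstance, ?_, e, t.hom.hom.isMonHom_hom⟩
  haveI : IsIso e.hom.left := inferInstanceAs (IsIso ((Over.forget _).map e.hom))
  have h : LocallyOfFiniteType (e.hom.left ≫ G.hom) := inferInstance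
  rw [Over.w e.hom] at h
  exact RingHom.finiteType_algebraMap.mp ((HasRingHomProperty.Spec_iff (P := @LocallyOfFiniteType)).mp h)

/-- A ring with connected spectrum has no idempotents other than zero and one. -/
theorem idem_trivial {A : Type u} [CommRing A] [ConnectedSpace (PrimeSpectrum A)] (e : A) (he : IsIdempotentElem e) :
    e = 0 ∨ e = 1 := by
  rcases isClopen_iff.mp (PrimeSpectrum.isClopen_iff.mpr ⟨e, he, rfl⟩ :
      IsClopen (PrimeSpectrum.basicOpen e : Set (PrimeSpectrum A))) with h | h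
  · left
    have hn : IsNilpotent e := by
      rw [← PrimeSpectrum.basicOpen_eq_bot_iff, ← TopologicalSpace.Opens.coe_eq_empty, h]
    exact he.eq_zero_of_isNilpotent hn
  · right
    have hu : IsUnit e := by
      by_contra hne
      obtain ⟨m, hm, hem⟩ := exists_max_ideal_of_mem_nonunits hne
      exact (Set.eq_univ_iff_forall.mp h ⟨m, hm.isPrime⟩) hem
    exact (IsIdempotentElem.iff_eq_one_of_isUnit hu).mp he

open scoped commutatorElement in
theorem comp_comm {S : Scheme.{u}} {G X X' : Over S} [GrpObj G] (t : X' ⟶ X) (a b : X ⟶ G) :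
    t ≫ ⁅a, b⁆ = ⁅t ≫ a, t ≫ b⁆ := by
  simp only [commutatorElement_def, MonObj.comp_mul, GrpObj.comp_inv]

section Rigid

variable {G M : Over (Spec (CommRingCat.of k))} [GrpObj G] [GrpObj M]

/-- Rigidity: a connected family of homomorphisms out of a group of multiplicative type which is trivial at a point is
trivial. -/
theorem rigid [LocallyOfFiniteType G.hom] (hM : SGA3x.IsMultTypeFT M) (Y : Over (Spec (CommRingCat.of k))) [ConnectedSpace ↥Y.left]
    (y₀ : 𝟙_ (Over (Spec (CommRingCat.of k))) ⟶ Y) (u : Y ⊗ M ⟶ G)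
    (hmul : ∀ (X : Over (Spec (CommRingCat.of k))) (y : X ⟶ Y) (x x' : X ⟶ M),
      lift y (x * x') ≫ u = (lift y x ≫ u) * (lift y x' ≫ u))
    (h0 : ∀ (X : Over (Spec (CommRingCat.of k))) (x : X ⟶ M), lift (toUnit X ≫ y₀) x ≫ u = 1) : u = 1 := by
  haveI := Groth.Agent.GrpSchLib.AntiAffine.isSeparated_grp G
  let f := Y.hom
  let ev : ∀ {W : Over Y.left}, (W ⟶ Red.bc f M) → ((Over.map f).obj W ⟶ G) := fun {W} a =>
    lift (Over.homMk W.hom rfl : (Over.map f).obj W ⟶ Y) (Groth.Agent.DSPtsLib.theta f a) ≫ u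
  obtain ⟨v, hv⟩ := (Groth.Agent.DSPtsLib.theta_bijective (H := G) (Y := Red.bc f M) f).2 (ev (𝟙 _))
  have hnat : ∀ {W : Over Y.left} (a : W ⟶ Red.bc f M), Groth.Agent.DSPtsLib.theta f (a ≫ v) = ev a := fun {W} a => by
    rw [Groth.Agent.DSPtsLib.theta_comp, hv]
    show (Over.map f).map a ≫ lift _ _ ≫ u = lift _ _ ≫ u
    rw [comp_lift_assoc, ← Groth.Agent.DSPtsLib.theta_comp, Category.comp_id]
    congr 2
    exact Over.OverMorphism.ext (Over.w a)
  haveI : IsMonHom v := Groth.Agent.GrpSchLib.RankOne.isMonHom_of_comp v fun W a b => by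
    apply (Groth.Agent.DSPtsLib.theta_bijective f).1
    rw [Groth.Agent.DSPtsLib.theta_mul, hnat, hnat, hnat]
    show lift _ (Groth.Agent.DSPtsLib.theta f (a * b)) ≫ u = _
    rw [Groth.Agent.DSPtsLib.theta_mul, hmul]
  haveI : LocallyOfFiniteType (Red.bc f G).hom :=
    inferInstanceAs (LocallyOfFiniteType (pullback.snd G.hom f))
  haveI : IsSeparated (Red.bc f G).hom := inferInstanceAs (IsSeparated (pullback.snd G.hom f))
  obtain ⟨U, hUc, hU, hTriv⟩ := Groth.Agent.GrpSchLib.HomUnitLocus.main (u := v)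
    (Groth.Agent.GrpSchLib.MultTypeBC.isMultTypeFT_bc f hM) (.inr inferInstance)
  let p : Y.left := (Scheme.SpecToEquivOfField k Y.left y₀.left).1
  have hsec : Y.left.fromSpecResidueField p = (Y.left.fromSpecResidueField p ≫ f) ≫ y₀.left := by
    obtain ⟨φ, hφ⟩ : ∃ φ : Y.left.residueField p ⟶ CommRingCat.of k,
        Spec.map φ ≫ Y.left.fromSpecResidueField p = y₀.left :=
      ⟨(Scheme.SpecToEquivOfField k Y.left y₀.left).2, (Scheme.SpecToEquivOfField k Y.left).symm_apply_apply y₀.left⟩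
    haveI : IsIso φ := by
      have h1 : Spec.map φ ≫ Y.left.fromSpecResidueField p ≫ f = 𝟙 (Spec (CommRingCat.of k)) := by
        rw [← Category.assoc, hφ]; exact Over.w y₀
      obtain ⟨α, hα⟩ : ∃ α : CommRingCat.of k ⟶ Y.left.residueField p, Spec.map α = Y.left.fromSpecResidueField p ≫ f :=
        ⟨_, Spec.map_preimage _⟩
      rw [← hα, ← Spec.map_comp, ← Spec.map_id] at h1
      have h2 := Spec.map_injective h1
      exact (ConcreteCategory.isIso_iff_bijective φ).mpr
        ⟨φ.hom.injective, fun c => ⟨α c, by rw [← ConcreteCategory.comp_apply, h2]; rfl⟩⟩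
    have hw : y₀.left ≫ f = 𝟙 (Spec (CommRingCat.of k)) := Over.w y₀
    rw [← cancel_epi (Spec.map φ), ← Category.assoc (Spec.map φ) _ y₀.left, reassoc_of% hφ, hw, Category.id_comp, hφ]
  have hp : p ∈ U := by
    rw [hU]
    intro W q a
    apply (Groth.Agent.DSPtsLib.theta_bijective f).1
    rw [hnat, Groth.Agent.GrpSchLib.HomUnitLocus.theta_one]
    show lift _ _ ≫ u = 1
    rw [show (Over.homMk W.hom rfl : (Over.map f).obj W ⟶ Y) = toUnit _ ≫ y₀ from Over.OverMorphism.ext ?_]
    · exact h0 _ _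
    · show W.hom = (W.hom ≫ f) ≫ y₀.left
      have hw : q.left ≫ Y.left.fromSpecResidueField p = W.hom := Over.w q
      rw [← hw, Category.assoc, Category.assoc]
      exact congrArg (q.left ≫ ·) (hsec.trans (Category.assoc _ _ _))
  have hUtop : (U : Set Y.left) = Set.univ := IsClopen.eq_univ ⟨hUc, U.2⟩ ⟨p, hp⟩
  -- the tautological point
  let Z : Over Y.left := Over.mk (fst Y M).left
  obtain ⟨a, ha⟩ := (Groth.Agent.DSPtsLib.theta_bijective (H := M) (Y := Z) f).2
    (Over.homMk (snd Y M).left (by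
      show (snd Y M).left ≫ M.hom = (fst Y M).left ≫ f
      rw [Over.w (snd Y M)]; exact (Over.w (fst Y M)).symm))
  have hrange : Set.range Z.hom.base ⊆ (U : Set Y.left) := by rw [hUtop]; exact Set.subset_univ _
  have h1 : a ≫ v = 1 := hTriv Z (Over.homMk (IsOpenImmersion.lift U.ι Z.hom (by rwa [Scheme.Opens.range_ι]))
    (IsOpenImmersion.lift_fac _ _ _)) a
  have h2 := congrArg (Groth.Agent.DSPtsLib.theta f) h1
  rw [hnat, Groth.Agent.GrpSchLib.HomUnitLocus.theta_one] at h2
  let e : Y ⊗ M ⟶ (Over.map f).obj Z := Over.homMk (𝟙 _) (by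
    show 𝟙 _ ≫ (fst Y M).left ≫ f = _
    rw [Category.id_comp]; exact Over.w (fst Y M))
  have h3 := congrArg (e ≫ ·) h2
  simp only [ev, MonObj.comp_one, comp_lift_assoc, ha] at h3
  refine Eq.trans ?_ h3
  conv_lhs => rw [← Category.id_comp u, ← lift_fst_snd]
  congr 2 <;> exact Over.OverMorphism.ext (Category.id_comp _).symm

end Rigid

end TorusCent19
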