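import Groth.Agent.GrpSchLib.AdjointCentre
import Groth.Agent.GrpSchLib.SmoothQuot
import Groth.Agent.AGFRoot.MaxTorusConj
import Groth.Agent.TorusCent19.Base
import Groth.Agent.MaxTorusLib.Basic
import Groth.Agent.S4120

/-!
# Maximal tori of a connected smooth group are conjugate

Their images in the affine quotient by the centre lie, after conjugation, in one torus; then they commute.
-/

set_option autoImplicit false
set_option linter.style.haveILetI false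

universe u

open CategoryTheory CategoryTheory.Limits MonoidalCategory CartesianMonoidalCategory MonObj GrpObj AlgebraicGeometry
open scoped commutatorElement

noncomputable section

namespace TorusCent19

open Groth.Agent Groth.Agent.AGFRoot Groth.Agent.AGFRoot.SolvSch

variable {k : Type u} [Field k]

local notation "𝕊" => Spec (CommRingCat.of k)

/-- Commutators with values in the centre vanish on tori. -/
theorem commute_of_central [IsAlgClosed k] {G A B : Over 𝕊} [GrpObj G] [GrpObj A] [GrpObj B]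
    [LocallyOfFiniteType G.hom] (hA : Red.IsTorus A) (hB : Red.IsTorus B) (a : A ⟶ G) [IsMonHom a]
    (b : B ⟶ G) [IsMonHom b]
    (h : ∀ (X : Over 𝕊) (x : X ⟶ A) (y : X ⟶ B) (g : X ⟶ G), Commute ⁅x ≫ a, y ≫ b⁆ g)
    (X : Over 𝕊) (x : X ⟶ A) (y : X ⟶ B) : Commute (x ≫ a) (y ≫ b) := by
  haveI := (torus_facts hA).2.2.1
  have hu : ⁅fst A B ≫ a, snd A B ≫ b⁆ = 1 := by
    refine rigid (GrpSchLib.RankOne.isMultTypeFT_of_isTorus hB) A η[A] _ ?_ ?_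
    · intro X p q q'
      simp only [comp_comm, lift_fst_assoc, lift_snd_assoc, MonObj.mul_comp]
      rw [show ⁅p ≫ a, (q ≫ b) * (q' ≫ b)⁆ = ⁅p ≫ a, q ≫ b⁆ * ((q ≫ b) * ⁅p ≫ a, q' ≫ b⁆ * (q ≫ b)⁻¹) by
        simp only [commutatorElement_def]; group]
      rw [← (h X p q' (q ≫ b)).eq, mul_inv_cancel_right]
    · intro X q
      simp only [comp_comm, lift_fst_assoc, lift_snd_assoc, Category.assoc, IsMonHom.one_hom]
      exact commutatorElement_one_left (q ≫ b)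
  have h2 := congrArg (lift x y ≫ ·) hu
  simp only [comp_comm, lift_fst_assoc, lift_snd_assoc, MonObj.comp_one] at h2
  exact commutatorElement_eq_one_iff_commute.1 h2

/-- Maximal tori of a connected smooth group over an algebraically closed field are conjugate. -/
theorem exists_conj [IsAlgClosed k] {G T₁ T₂ : Over 𝕊} [GrpObj G] [GrpObj T₁] [GrpObj T₂] [Smooth G.hom]
    [QuasiCompact G.hom] [ConnectedSpace G.left] {i₁ : T₁ ⟶ G} {i₂ : T₂ ⟶ G} (h₁ : Red.IsMaximalTorus i₁)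
    (h₂ : Red.IsMaximalTorus i₂) :
    ∃ (g : 𝟙_ (Over 𝕊) ⟶ G) (φ : T₁ ≅ T₂), AGF.conjBy g i₁ = φ.hom ≫ i₂ := by
  haveI := GrpSchLib.AntiAffine.isSeparated_grp G
  haveI := h₁.1; haveI := h₁.2.1; haveI := h₂.1; haveI := h₂.2.1
  obtain ⟨Z, _, z, hz, hzc, hZ, Q, _, p, hp, hQa, hQl, hQq, hpf, hps, hker⟩ :=
    GrpSchLib.Adjoint.exists_centre_quot G
  haveI := hz; haveI := hzc; haveI := hp; haveI := hQa; haveI := hQl; haveI := hQq; haveI := hpf; haveI := hps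
  haveI : Smooth (p.left ≫ Q.hom) := by rw [Over.w p]; infer_instance
  haveI : Smooth Q.hom := GrpSchLib.smooth_of_flat_surjective_algClosed p.left Q.hom
  haveI : ConnectedSpace Q.left := p.left.surjective.connectedSpace p.left.continuous
  haveI : IsSeparated Q.hom := inferInstance
  obtain ⟨Q₁, _, j₁, π₁, hj₁, hπ₁, hj₁c, -, -, hf₁, hQ₁⟩ := MaxTorusLib.exists_image_torus h₁.2.2.1 (i₁ ≫ p)
  obtain ⟨Q₂, _, j₂, π₂, hj₂, hπ₂, hj₂c, -, -, hf₂, hQ₂⟩ := MaxTorusLib.exists_image_torus h₂.2.2.1 (i₂ ≫ p)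
  haveI := hj₁; haveI := hπ₁; haveI := hj₁c; haveI := hj₂; haveI := hπ₂; haveI := hj₂c
  haveI := mono_of_closed j₁
  haveI := mono_of_closed j₂
  obtain ⟨B₁, _, b₁, s₁, hB₁, hs₁⟩ := exists_borel_containing j₁ hQ₁
  obtain ⟨B, _, b, s₂, hB, hs₂⟩ := exists_borel_containing j₂ hQ₂
  obtain ⟨g, f, hf⟩ := borel_conj hB₁ hB
  haveI := hB.1; haveI := hB.2.1; haveI := mono_of_closed b
  haveI := hB.2.2.1; haveI := hB.2.2.2.1
  haveI : IsAffine B.left := isAffine_of_isAffineHom b.left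
  obtain ⟨T₀, _, j₀, hj₀, -, hT₀, hle⟩ := exists_torus_conj_le (G := B) hB.2.2.2.2.1
  haveI := hj₀
  have hs₁' : (s₁ ≫ f.hom) ≫ b = AGF.conjBy g j₁ := by rw [Category.assoc, hf, comp_conjBy, hs₁]
  haveI : IsMonHom (s₁ ≫ f.hom) := isMonHom_of_mono b _ _ hs₁'
  haveI : IsMonHom s₂ := isMonHom_of_mono b _ _ hs₂
  obtain ⟨c₁, f₁, hf₁m, hc₁⟩ := hle Q₁ (s₁ ≫ f.hom) hQ₁
  obtain ⟨c₂, f₂, hf₂m, hc₂⟩ := hle Q₂ s₂ hQ₂
  obtain ⟨g₁, hg₁⟩ := exists_point_over p ((c₁ ≫ b) * g)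
  obtain ⟨g₂, hg₂⟩ := exists_point_over p (c₂ ≫ b)
  let τ := j₀ ≫ b
  have e₁ : AGF.conjBy g₁ i₁ ≫ p = (π₁ ≫ f₁) ≫ τ := by
    rw [conjBy_comp, hg₁, ← hf₁, ← comp_conjBy, ← conjBy_conjBy, ← hs₁', ← conjBy_comp, ← hc₁]
    simp only [τ, Category.assoc]
  have e₂ : AGF.conjBy g₂ i₂ ≫ p = (π₂ ≫ f₂) ≫ τ := by
    rw [conjBy_comp, hg₂, ← hf₂, ← comp_conjBy, ← hs₂, ← conjBy_comp, ← hc₂]
    simp only [τ, Category.assoc]
  let a₁ := AGF.conjBy g₁ i₁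
  let a₂ := AGF.conjBy g₂ i₂
  have hcen : ∀ (X : Over 𝕊) (x : X ⟶ T₁) (y : X ⟶ T₂) (w : X ⟶ G), Commute ⁅x ≫ a₁, y ≫ a₂⁆ w := by
    intro X x y w
    have c : Commute (x ≫ a₁ ≫ p) (y ≫ a₂ ≫ p) := by
      simp only [a₁, a₂, e₁, e₂, ← Category.assoc]
      show _ * _ = _ * _
      rw [← MonObj.mul_comp ((x ≫ π₁) ≫ f₁) ((y ≫ π₂) ≫ f₂) τ, ← MonObj.mul_comp ((y ≫ π₂) ≫ f₂) ((x ≫ π₁) ≫ f₁) τ,
        GrpSchLib.RankOne.torus_mul_comm hT₀]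
    have h0 : ⁅x ≫ a₁, y ≫ a₂⁆ ≫ p = toUnit X ≫ η[Q] := by
      simp only [commutatorElement_def, MonObj.mul_comp, GrpObj.inv_comp, Category.assoc]
      rw [c.eq, mul_inv_cancel_right, mul_inv_cancel]
      rfl
    have hl := hker.lift_fst ⁅x ≫ a₁, y ≫ a₂⁆ (toUnit X) h0
    rw [← hl]
    have := (hZ.2.2 X _).1 ⟨hker.lift ⁅x ≫ a₁, y ≫ a₂⁆ (toUnit X) h0, rfl⟩ X (𝟙 X) w
    simpa [Commute, SemiconjBy] using this
  have hcomm : ∀ (X : Over 𝕊) (x : X ⟶ T₁) (y : X ⟶ T₂), Commute (x ≫ a₁) (y ≫ a₂) :=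
    commute_of_central h₁.2.2.1 h₂.2.2.1 a₁ a₂ hcen
  -- conjugate back
  let h := g₁⁻¹ * g₂
  obtain ⟨u, hu⟩ := S4120.result 𝕊 G T₁ T₂ i₁ (AGF.conjBy h i₂) h₁ h₂.2.2.1 fun X x y => by
    have e := (hcomm X x y).eq
    rw [show x ≫ a₁ = AGF.conjBy g₁ (x ≫ i₁) from comp_conjBy _ _ _,
      show y ≫ a₂ = AGF.conjBy g₂ (y ≫ i₂) from comp_conjBy _ _ _] at e
    replace e := congrArg (AGF.conjBy g₁⁻¹) e
    rw [conjBy_mul g₁⁻¹ (AGF.conjBy g₁ (x ≫ i₁)) (AGF.conjBy g₂ (y ≫ i₂)),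
      conjBy_mul g₁⁻¹ (AGF.conjBy g₂ (y ≫ i₂)) (AGF.conjBy g₁ (x ≫ i₁)), conjBy_conjBy, conjBy_conjBy, inv_mul_cancel, conjBy_one] at e
    rw [comp_conjBy]
    exact e
  obtain ⟨v, hv⟩ := S4120.result 𝕊 G T₂ T₁ i₂ (AGF.conjBy h⁻¹ i₁) h₂ h₁.2.2.1 fun X y x => by
    have e := (hcomm X x y).eq
    rw [show x ≫ a₁ = AGF.conjBy g₁ (x ≫ i₁) from comp_conjBy _ _ _,
      show y ≫ a₂ = AGF.conjBy g₂ (y ≫ i₂) from comp_conjBy _ _ _] at e
    replace e := congrArg (AGF.conjBy g₂⁻¹) e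
    rw [conjBy_mul g₂⁻¹ (AGF.conjBy g₁ (x ≫ i₁)) (AGF.conjBy g₂ (y ≫ i₂)),
      conjBy_mul g₂⁻¹ (AGF.conjBy g₂ (y ≫ i₂)) (AGF.conjBy g₁ (x ≫ i₁)), conjBy_conjBy, conjBy_conjBy, inv_mul_cancel, conjBy_one] at e
    rw [comp_conjBy, show h⁻¹ = g₂⁻¹ * g₁ by simp [h]]
    exact e.symm
  refine ⟨h⁻¹, ⟨v, u, ?_, ?_⟩, hv.symm⟩
  · rw [← cancel_mono i₁, Category.assoc, hu, comp_conjBy, hv, conjBy_inv_cancel, Category.id_comp]
  · rw [← cancel_mono i₂, Category.assoc, hv, comp_conjBy, hu, conjBy_inv_cancel', Category.id_comp]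

end TorusCent19
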