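import Groth.Agent.TorusCent19.CentMax
import Groth.Agent.MaxTorusLib.Basic
import Groth.Agent.MultDefLib.SubgroupTransp
import Groth.Agent.SgaFix20.MultTypeClosed
import Groth.Agent.S4120

/-!
# The intersection of the maximal tori
-/

set_option autoImplicit false
set_option linter.style.haveILetI false

universe u

open CategoryTheory CategoryTheory.Limits MonoidalCategory CartesianMonoidalCategory MonObj GrpObj AlgebraicGeometry

noncomputable section

namespace TorusCent19

open Groth.Agent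
open Groth.Agent.AGFRoot Groth.Agent.AGFRoot.SolvSch

variable {k : Type u} [Field k] [IsAlgClosed k]

/-- Over an algebraically closed field a maximal torus in the geometric sense is maximal among the tori. -/
theorem isMaxTorus_of_isMaximalTorus {G T : Over (Spec (CommRingCat.of k))} [GrpObj G] [GrpObj T]
    [LocallyOfFiniteType G.hom] [QuasiCompact G.hom]
    {i : T ⟶ G} (hi : Red.IsMaximalTorus i) : AGF.IsMaxTorus i := by
  haveI := hi.1
  haveI := hi.2.1
  haveI : IsSeparated G.hom := GrpSchLib.AntiAffine.isSeparated_grp G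
  haveI : QuasiSeparated G.hom := inferInstance
  haveI : LocallyOfFinitePresentation G.hom := inferInstance
  refine ⟨hi.1, hi.2.1, hi.2.2.1, fun T' _ j _ _ f hT' hf => ?_⟩
  obtain ⟨g, hg⟩ := S4120.result _ G T T' i j hi hT' fun X t r => by
    rw [← hf, ← Category.assoc t f j, ← MonObj.mul_comp, ← MonObj.mul_comp, GrpSchLib.RankOne.torus_mul_comm hT']
  exact ⟨g, by rw [← cancel_mono i, Category.assoc, hg, hf, Category.id_comp],
    by rw [← cancel_mono j, Category.assoc, hf, hg, Category.id_comp]⟩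

/-- Over an algebraically closed field a torus maximal among the tori is a maximal torus. -/
theorem isMaximalTorus_of_isMaxTorus {G T : Over (Spec (CommRingCat.of k))} [GrpObj G] [GrpObj T]
    {i : T ⟶ G} (hi : AGF.IsMaxTorus i) : Red.IsMaximalTorus i := by
  obtain ⟨hh, hm, hT, hmax⟩ := hi
  haveI := hh
  haveI := hm
  refine ⟨hh, hm, hT, fun s T' _ j _ _ f hT' hf => ?_⟩
  haveI := MaxTorusLib.isIso_geomPt s
  let g := Red.geomPt s
  let g' := inv g
  haveI : (Over.pullback g').PreservesMonomorphisms :=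
    Functor.preservesMonomorphisms_of_adjunction (Over.mapPullbackAdj g')
  let Φ : Over.pullback g ⋙ Over.pullback g' ≅ 𝟭 _ :=
    (Over.pullbackComp g' g).symm ≪≫ eqToIso (congrArg (fun m => Over.pullback m) (IsIso.inv_hom_id g)) ≪≫
      Over.pullbackId
  haveI hΦ : IsMonHom (M := Red.bc g' (Red.bc g G)) (N := G) (Φ.hom.app G) :=
    (((Functor.mapGrpCompIso).symm ≪≫ Functor.mapGrpNatIso Φ ≪≫ Functor.mapGrpIdIso).app (Grp.mk G)).hom.hom.isMonHom_hom
  haveI : IsIso (Φ.hom.app G) := inferInstance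
  let t'' : Red.bc g' T' ⟶ G := (Over.pullback g').map j ≫ Φ.hom.app G
  haveI : IsMonHom t'' := SgaFix20.isMonHom_comp (Y := Red.bc g' (Red.bc g G)) _ _ inferInstance hΦ
  haveI : Mono t'' := mono_comp _ _
  let f'' : T ⟶ Red.bc g' T' := Φ.inv.app T ≫ (Over.pullback g').map f
  have hf'' : f'' ≫ t'' = i := by
    show (Φ.inv.app T ≫ _) ≫ (Over.pullback g').map j ≫ Φ.hom.app G = _
    rw [Category.assoc, ← Functor.map_comp_assoc, hf]
    have hn := Φ.hom.naturality i
    rw [Functor.comp_map, Functor.id_map] at hn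
    rw [hn, Iso.inv_hom_id_app_assoc]
  haveI := hmax (Red.bc g' T') t'' f'' (RedSub30.TorusAbsorb.isTorus_bc g' hT') hf''
  haveI : IsIso (Φ.inv.app T) := inferInstance
  exact MaxTorusLib.isIso_of_map_isIso g' f (IsIso.of_isIso_comp_left (Φ.inv.app T) _)

variable {G : Over (Spec (CommRingCat.of k))} [GrpObj G] [IsAffine G.left] [Smooth G.hom] [ConnectedSpace G.left]

variable (G) in
/-- A connected affine group has a maximal torus. -/
theorem exists_maxTorus : ∃ (T : Over (Spec (CommRingCat.of k))) (_ : GrpObj T) (i : T ⟶ G), AGF.IsMaxTorus i := by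
  obtain ⟨B, _, iB, hB, -⟩ := exists_borel_proper (G := G)
  haveI := hB.1; haveI := hB.2.1; haveI := mono_of_closed iB
  haveI := hB.2.2.1; haveI := hB.2.2.2.1
  haveI : IsAffine B.left := isAffine_of_isAffineHom iB.left
  obtain ⟨T, _, j, _, _, hT, key⟩ := exists_torus_conj_le hB.2.2.2.2.1
  haveI : Mono (j ≫ iB) := mono_comp _ _
  refine ⟨T, inferInstance, j ≫ iB, inferInstance, inferInstance, hT, fun T' _ jT _ _ f hT' hf => ?_⟩
  obtain ⟨B₁, _, b, s, hB₁, hs⟩ := exists_borel_containing jT hT'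
  obtain ⟨g, e, he⟩ := borel_conj hB₁ hB
  have hs' : (s ≫ e.hom) ≫ iB = AGF.conjBy g jT := by rw [Category.assoc, he, comp_conjBy, hs]
  haveI : IsMonHom (s ≫ e.hom) := SolvSch.isMonHom_of_mono iB _ _ hs'
  obtain ⟨g', f', _, hf'⟩ := key T' (s ≫ e.hom) hT'
  have h1 : f' ≫ j ≫ iB = AGF.conjBy ((g' ≫ iB) * g) jT := by
    rw [← Category.assoc, hf', conjBy_comp, hs', conjBy_conjBy]
  haveI : Mono f' := by
    refine @mono_of_mono _ _ _ _ _ f' (j ≫ iB) ?_
    rw [h1]
    refine ⟨fun a b hab => ?_⟩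
    rw [comp_conjBy, comp_conjBy] at hab
    have := congrArg (AGF.conjBy ((g' ≫ iB) * g)⁻¹) hab
    rwa [conjBy_inv_cancel', conjBy_inv_cancel', cancel_mono] at this
  haveI : IsMonHom f := SolvSch.isMonHom_of_mono jT f (j ≫ iB) hf
  have h2 : (f ≫ f') ≫ j ≫ iB = AGF.conjBy ((g' ≫ iB) * g) (j ≫ iB) := by
    rw [Category.assoc, h1, comp_conjBy, hf]
  obtain ⟨hTa, hTs, -, -⟩ := torus_facts hT
  haveI := hTa; haveI := hTs
  haveI : Mono f := mono_of_mono_fac hf
  haveI : Mono (f ≫ f') := mono_comp _ _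
  haveI := isClosedImmersion_torus (f ≫ f') hT
  haveI : IsReduced T.left := isReduced_of_smooth
  haveI : LocallyOfFiniteType T.hom := inferInstance
  haveI : IsLocallyNoetherian T.left := LocallyOfFiniteType.isLocallyNoetherian T.hom
  haveI : IsIso (f ≫ f') := isIso_of_endo (f ≫ f')
  haveI : IsSplitEpi f' := ⟨⟨⟨inv (f ≫ f') ≫ f, by simp⟩⟩⟩
  haveI : IsIso f' := isIso_of_mono_of_isSplitEpi f'
  exact IsIso.of_isIso_comp_right f f'

/-- Conjugates of a maximal torus are maximal tori. -/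
theorem isMaxTorus_conjBy {T : Over (Spec (CommRingCat.of k))} [GrpObj T] {i : T ⟶ G} (hi : AGF.IsMaxTorus i)
    (g : 𝟙_ (Over (Spec (CommRingCat.of k))) ⟶ G) : AGF.IsMaxTorus (AGF.conjBy g i) := by
  haveI := hi.1
  haveI := hi.2.1
  refine ⟨inferInstance, ⟨fun a b hab => ?_⟩, hi.2.2.1, fun T' _ j _ _ e hT' he =>
    hi.2.2.2 T' (AGF.conjBy g⁻¹ j) e hT' (by rw [comp_conjBy, he, conjBy_inv_cancel'])⟩
  · rw [comp_conjBy, comp_conjBy] at hab
    have := congrArg (AGF.conjBy g⁻¹) hab
    rwa [conjBy_inv_cancel', conjBy_inv_cancel', cancel_mono] at this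

omit [IsAlgClosed k] in
/-- A point factors through a closed subscheme of an affine scheme when it kills its ideal. -/
theorem exists_factor_closed {X T Y : Over (Spec (CommRingCat.of k))} [IsAffine Y.left] (j : T ⟶ Y)
    [IsClosedImmersion j.left] (x : X ⟶ Y) (h : ∀ a, j.left.appTop a = 0 → x.left.appTop a = 0) :
    ∃ t : X ⟶ T, t ≫ j = x := by
  haveI : IsAffine T.left := isAffine_of_isAffineHom j.left
  have hs : Function.Surjective j.left.appTop := j.left.app_surjective ⊤ (isAffineOpen_top _)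
  let β : Γ(T.left, ⊤) →+* Γ(X.left, ⊤) :=
    j.left.appTop.hom.liftOfRightInverse _ (Function.rightInverse_surjInv hs) ⟨x.left.appTop.hom, fun a ha => h a ha⟩
  have hβ : j.left.appTop ≫ CommRingCat.ofHom β = x.left.appTop :=
    CommRingCat.hom_ext (j.left.appTop.hom.liftOfRightInverse_comp _ (Function.rightInverse_surjInv hs)
      ⟨x.left.appTop.hom, fun a ha => h a ha⟩)
  let t : X.left ⟶ T.left := X.left.toSpecΓ ≫ Spec.map (CommRingCat.ofHom β) ≫ T.left.isoSpec.inv
  have ht : t ≫ j.left = x.left := by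
    refine ext_of_isAffine ?_
    simp only [t, Scheme.Hom.comp_appTop, Category.assoc]
    have hn : T.left.isoSpec.inv.appTop ≫ (Spec.map (CommRingCat.ofHom β)).appTop ≫ X.left.toSpecΓ.appTop =
        CommRingCat.ofHom β := by
      rw [show T.left.isoSpec.inv.appTop = (Scheme.ΓSpecIso Γ(T.left, ⊤)).inv by
        rw [← cancel_mono (Scheme.ΓSpecIso Γ(T.left, ⊤)).hom, Iso.inv_hom_id, ← Scheme.toSpecΓ_appTop,
          ← Scheme.Hom.comp_appTop]
        rw [show T.left.toSpecΓ ≫ T.left.isoSpec.inv = 𝟙 _ from T.left.toSpecΓ_isoSpec_inv]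
        rfl, Scheme.toSpecΓ_appTop, Scheme.ΓSpecIso_naturality]
      exact Iso.inv_hom_id_assoc _ _
    rw [hn, hβ]
  exact ⟨Over.homMk t (by rw [← Over.w j, reassoc_of% ht, Over.w x]), Over.OverMorphism.ext ht⟩

/-- A point through every maximal torus lies in a central subgroup of multiplicative type. -/
theorem exists_central_subgroup :
    ∃ (W : Over (Spec (CommRingCat.of k))) (_ : GrpObj W) (w : W ⟶ G), IsMonHom w ∧ SGA3x.IsMultTypeFT W ∧
      (∀ (X : Over (Spec (CommRingCat.of k))) (x : X ⟶ W) (g : X ⟶ G), (x ≫ w) * g = g * (x ≫ w)) ∧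
      ∀ (X : Over (Spec (CommRingCat.of k))) (g : X ⟶ G),
        (∀ (T : Over (Spec (CommRingCat.of k))) [GrpObj T] (i : T ⟶ G), Red.IsMaximalTorus i →
          ∃ t : X ⟶ T, t ≫ i = g) → ∃ y : X ⟶ W, y ≫ w = g := by
  classical
  obtain ⟨T, _, i, hi⟩ := exists_maxTorus G
  let c : (𝟙_ (Over (Spec (CommRingCat.of k))) ⟶ G) → (T ⟶ G) := fun g => AGF.conjBy g i
  have hcm : ∀ g, AGF.IsMaxTorus (c g) := fun g => isMaxTorus_conjBy hi g
  haveI : ∀ g, IsMonHom (c g) := fun g => (hcm g).1
  haveI : ∀ g, Mono (c g) := fun g => (hcm g).2.1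
  haveI : ∀ g, IsClosedImmersion (c g).left := fun g => isClosedImmersion_torus (c g) hi.2.2.1
  let P : ∀ (X : Over (Spec (CommRingCat.of k))), (X ⟶ G) → Prop := fun X x => ∀ g, ∃ t : X ⟶ T, t ≫ c g = x
  let I : Ideal Γ(G.left, ⊤) := ⨆ g, RingHom.ker (c g).left.appTop.hom
  let W : Over (Spec (CommRingCat.of k)) :=
    Over.mk (Spec.map (CommRingCat.ofHom (Ideal.Quotient.mk I)) ≫ G.left.isoSpec.inv ≫ G.hom)
  let w : W ⟶ G := Over.homMk (Spec.map (CommRingCat.ofHom (Ideal.Quotient.mk I)) ≫ G.left.isoSpec.inv)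
    (Category.assoc _ _ _)
  haveI : IsClosedImmersion (Spec.map (CommRingCat.ofHom (Ideal.Quotient.mk I))) :=
    IsClosedImmersion.spec_of_surjective _ Ideal.Quotient.mk_surjective
  haveI : IsClosedImmersion w.left :=
    inferInstanceAs (IsClosedImmersion (Spec.map (CommRingCat.ofHom (Ideal.Quotient.mk I)) ≫ G.left.isoSpec.inv))
  haveI : Mono w := mono_of_closed w
  have hw : ∀ a, w.left.appTop a = 0 ↔ a ∈ I := by
    intro a
    have e : w.left.appTop a = (Scheme.ΓSpecIso (CommRingCat.of (Γ(G.left, ⊤) ⧸ I))).inv (Ideal.Quotient.mk I a) := by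
      have h1 : G.left.isoSpec.inv.appTop = (Scheme.ΓSpecIso Γ(G.left, ⊤)).inv := by
        rw [← cancel_mono (Scheme.ΓSpecIso Γ(G.left, ⊤)).hom, Iso.inv_hom_id, ← Scheme.toSpecΓ_appTop,
          ← Scheme.Hom.comp_appTop]
        rw [show G.left.toSpecΓ ≫ G.left.isoSpec.inv = 𝟙 _ from G.left.toSpecΓ_isoSpec_inv]
        rfl
      show (Spec.map (CommRingCat.ofHom (Ideal.Quotient.mk I)) ≫ G.left.isoSpec.inv).appTop a = _
      rw [Scheme.Hom.comp_appTop, h1]
      exact appTop_specMap _ _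
    rw [e, ← Ideal.Quotient.eq_zero_iff_mem]
    exact ⟨fun h => (ConcreteCategory.bijective_of_isIso (Scheme.ΓSpecIso _).inv).1 (h.trans (map_zero _).symm),
      fun h => by rw [h, map_zero]⟩
  have hQ : ∀ (X : Over (Spec (CommRingCat.of k))) (x : X ⟶ G), (∃ z : X ⟶ W, z ≫ w = x) ↔ P X x := by
    intro X x
    constructor
    · rintro ⟨z, rfl⟩ g
      refine exists_factor_closed (c g) _ fun a ha => ?_
      rw [Over.comp_left, Scheme.Hom.comp_appTop, ConcreteCategory.comp_apply,
        (hw a).2 (le_iSup (fun g => RingHom.ker (c g).left.appTop.hom) g ha), map_zero]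
    · intro hx
      refine exists_factor_closed w x fun a ha => ?_
      have : I ≤ RingHom.ker x.left.appTop.hom := iSup_le fun g b hb => by
        obtain ⟨t, ht⟩ := hx g
        show x.left.appTop b = 0
        rw [← ht, Over.comp_left, Scheme.Hom.comp_appTop, ConcreteCategory.comp_apply,
          show (c g).left.appTop b = 0 from hb, map_zero]
      exact this ((hw a).1 ha)
  obtain ⟨str, hwm⟩ := MultDefLib.exists_grpObj_of_locus w P hQ
    (fun X g => ⟨1, MonObj.one_comp _⟩)
    (fun X a b ha hb g => by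
      obtain ⟨t, ht⟩ := ha g
      obtain ⟨t', ht'⟩ := hb g
      exact ⟨t * t', by rw [MonObj.mul_comp, ht, ht']⟩)
    (fun X a ha g => by
      obtain ⟨t, ht⟩ := ha g
      exact ⟨t⁻¹, by rw [GrpObj.inv_comp, ht]⟩)
  letI := str
  haveI := hwm
  obtain ⟨w₀, hw₀⟩ := (hQ W w).1 ⟨𝟙 W, Category.id_comp w⟩ 1
  haveI : IsMonHom w₀ := SolvSch.isMonHom_of_mono (c 1) w₀ w hw₀
  haveI : IsClosedImmersion w₀.left := by
    haveI : IsClosedImmersion (w₀.left ≫ (c 1).left) := by rw [← Over.comp_left, hw₀]; infer_instance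
    exact IsClosedImmersion.of_comp w₀.left (c 1).left
  haveI : Flat W.hom := inferInstance
  haveI : LocallyOfFiniteType W.hom := by rw [← Over.w w]; infer_instance
  haveI : LocallyOfFinitePresentation W.hom := inferInstance
  have hWT := SgaFix20.isMultTypeFT_of_closed (GrpSchLib.RankOne.isMultTypeFT_of_isTorus hi.2.2.1) w₀
  obtain ⟨N, _, n, hN, hnc, hns⟩ := MultDefLib.exists_normalizer_smooth hWT w
  haveI := hnc
  have hstable : ∀ (X : Over (Spec (CommRingCat.of k))) (g : 𝟙_ (Over (Spec (CommRingCat.of k))) ⟶ G) (y : X ⟶ W),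
      ∃ y' : X ⟶ W, y' ≫ w = AGF.conjBy g (y ≫ w) := fun X g y => (hQ X _).2 fun h => by
    obtain ⟨t, ht⟩ := (hQ X _).1 ⟨y, rfl⟩ (g⁻¹ * h)
    refine ⟨t, ?_⟩
    rw [← ht, ← comp_conjBy, show AGF.conjBy g (c (g⁻¹ * h)) = c h by
      simp only [c]; rw [conjBy_conjBy, mul_inv_cancel_left]]
  haveI : IsIso n.left := by
    haveI : IsReduced G.left := GrpSchLib.isReduced_of_smooth_field G.hom
    haveI : JacobsonSpace G.left := LocallyOfFiniteType.jacobsonSpace G.hom
    haveI : Surjective n.left := ⟨fun x => by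
      have hcl : IsClosed (Set.range n.left) := n.left.isClosedEmbedding.isClosed_range
      have hall : closedPoints G.left ⊆ Set.range n.left := fun z hz => by
        let g : 𝟙_ (Over (Spec (CommRingCat.of k))) ⟶ G :=
          Over.homMk (pointOfClosedPoint G.hom z hz) (pointOfClosedPoint_comp G.hom z hz)
        obtain ⟨m, hm⟩ := (hN.2.2 _ g).2 fun X x y => by
          rw [show x = toUnit X from toUnit_unique _ _]
          constructor
          · obtain ⟨y', hy'⟩ := hstable X g y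
            exact ⟨y', hy'.symm⟩
          · obtain ⟨y', hy'⟩ := hstable X g⁻¹ y
            refine ⟨y', ?_⟩
            rw [hy', AGF.conjBy, GrpObj.comp_inv, _root_.inv_inv]
        refine ⟨m.left (IsLocalRing.closedPoint k), ?_⟩
        rw [← Scheme.Hom.comp_apply, ← Over.comp_left, hm]
        exact pointOfClosedPoint_apply G.hom z hz _
      have h1 := closure_mono hall
      rw [hcl.closure_eq] at h1
      refine h1 ?_
      rw [show closure (closedPoints G.left) = Set.univ from closure_closedPoints]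
      trivial⟩
    exact isIso_of_isClosedImmersion_of_surjective n.left
  haveI : IsIso ((Over.forget _).map n) := ‹IsIso n.left›
  haveI : IsIso n := isIso_of_reflects_iso n (Over.forget _)
  have hnorm : ∀ (X : Over (Spec (CommRingCat.of k))) (g : X ⟶ G) (y : X ⟶ W),
      ∃ y' : X ⟶ W, g * (y ≫ w) * g⁻¹ = y' ≫ w := fun X g y => by
    obtain ⟨y', hy'⟩ := ((hN.2.2 X g).1 ⟨g ≫ inv n, by simp⟩ X (𝟙 X) y).1
    rw [Category.id_comp] at hy'
    exact ⟨y', hy'⟩
  have hWc : ∀ (X : Over (Spec (CommRingCat.of k))) (a b : X ⟶ W), a * b = b * a := fun X a b =>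
    GrpSchLib.MultTypeComm.points_comm hWT a b
  have hcen : ∀ (X : Over (Spec (CommRingCat.of k))) (x : X ⟶ W) (g : X ⟶ G), (x ≫ w) * g = g * (x ≫ w) := by
    have hu : (fst G W * (snd G W ≫ w) * (fst G W)⁻¹) * (snd G W ≫ w)⁻¹ = 1 := by
      refine rigid hWT G η[G] _ ?_ ?_
      · intro X g y y'
        simp only [MonObj.comp_mul, GrpObj.comp_inv, lift_fst, lift_snd_assoc, MonObj.mul_comp]
        obtain ⟨a, ha⟩ := hnorm X g y
        obtain ⟨a', ha'⟩ := hnorm X g y'
        rw [show g * ((y ≫ w) * (y' ≫ w)) * g⁻¹ = (g * (y ≫ w) * g⁻¹) * (g * (y' ≫ w) * g⁻¹) by group, ha, ha',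
          ← GrpObj.inv_comp, ← GrpObj.inv_comp, ← MonObj.mul_comp, ← MonObj.mul_comp, ← MonObj.mul_comp,
          ← MonObj.mul_comp, ← MonObj.mul_comp, ← GrpObj.inv_comp, ← MonObj.mul_comp]
        congr 1
        letI : CommGroup (X ⟶ W) := { (inferInstance : Group (X ⟶ W)) with mul_comm := hWc X }
        rw [_root_.mul_inv]; exact mul_mul_mul_comm a a' y⁻¹ y'⁻¹
      · intro X y
        simp only [MonObj.comp_mul, GrpObj.comp_inv, lift_fst, lift_snd_assoc]
        rw [show toUnit X ≫ η[G] = (1 : X ⟶ G) from rfl]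
        group
    intro X x g
    have h := congrArg (lift g x ≫ ·) hu
    simp only [MonObj.comp_mul, GrpObj.comp_inv, lift_fst, lift_snd_assoc, MonObj.comp_one] at h
    rw [mul_inv_eq_one, mul_inv_eq_iff_eq_mul] at h
    exact h.symm
  refine ⟨W, str, w, hwm, hWT, hcen, fun X g hg => (hQ X g).2 fun h => ?_⟩
  exact hg T (c h) (isMaximalTorus_of_isMaxTorus (hcm h))

end TorusCent19
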