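import Groth.Agent.GrpSchLib.AdjointCentre
import Groth.Agent.GrpSchLib.HomFinite
import Groth.Agent.GrpSchLib.IdentityComp
import Groth.Agent.SgaFix20.Smooth
import Groth.Agent.GrpSchLib.FieldAllComp
import Groth.Agent.AGStr.QuotAlgClosed
import Groth.Agent.TorusCent19.Base

/-!
# A smooth connected group is an extension of an affine one by a connected central subgroup

The quotient by the neutral component of the centre is finite over the affine quotient by the centre.
-/

set_option autoImplicit false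
set_option linter.style.haveILetI false

universe u

open CategoryTheory CategoryTheory.Limits MonoidalCategory CartesianMonoidalCategory MonObj GrpObj AlgebraicGeometry

noncomputable section

namespace TorusCent19

open Groth.Agent

variable {k : Type u} [Field k]

local notation "𝕊" => Spec (CommRingCat.of k)

/-- The neutral component as an open and closed subgroup. -/
theorem exists_neutral (Z : Over 𝕊) [GrpObj Z] [LocallyOfFiniteType Z.hom] :
    ∃ (Z0 : Over 𝕊) (_ : GrpObj Z0) (e : Z0 ⟶ Z), IsMonHom e ∧ IsOpenImmersion e.left ∧ IsClosedImmersion e.left ∧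
      ConnectedSpace Z0.left := by
  haveI : IsLocallyNoetherian Z.left := LocallyOfFiniteType.isLocallyNoetherian Z.hom
  obtain ⟨Z0, str, e, he, hec, hef, hr, -, -⟩ := GrpSchLib.exists_identityComponent (G := Z)
  haveI := hec; haveI := hef
  haveI : LocallyOfFinitePresentation e.left := by
    haveI : LocallyOfFiniteType (e.left ≫ Z.hom) := inferInstance
    haveI : LocallyOfFinitePresentation (e.left ≫ Z.hom) := inferInstance
    exact S12442.locallyOfFinitePresentation_of_comp e.left Z.hom
  haveI : IsOpenImmersion e.left := by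
    haveI : Mono e.left := inferInstance
    exact IsOpenImmersion.of_flat_of_mono e.left
  refine ⟨Z0, str, e, he, inferInstance, hec, ?_⟩
  have h1 : _root_.IsConnected (Set.range e.left) := by rw [hr]; exact isConnected_connectedComponent
  haveI : ConnectedSpace (Set.range e.left) := isConnected_iff_connectedSpace.mp h1
  exact e.left.isOpenEmbedding.toIsEmbedding.toHomeomorph.symm.surjective.connectedSpace
    e.left.isOpenEmbedding.toIsEmbedding.toHomeomorph.symm.continuous

/-- A smooth connected group over an algebraically closed field is an extension of a smooth connected affine group by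
a connected central subgroup. -/
theorem exists_affine_extension [IsAlgClosed k] (G : Over 𝕊) [GrpObj G] [Smooth G.hom] [QuasiCompact G.hom]
    [ConnectedSpace G.left] :
    ∃ (G₁ : Over 𝕊) (_ : GrpObj G₁) (q : G ⟶ G₁) (N : Over 𝕊) (_ : GrpObj N) (n : N ⟶ G),
      IsMonHom q ∧ IsMonHom n ∧ IsAffine G₁.left ∧ Smooth G₁.hom ∧ ConnectedSpace G₁.left ∧ Flat q.left ∧
      Surjective q.left ∧ LocallyOfFinitePresentation q.left ∧ AlgGrp.IsKernel n q ∧ ConnectedSpace N.left ∧
      ∀ (X : Over 𝕊) (z : X ⟶ N) (g : X ⟶ G), (z ≫ n) * g = g * (z ≫ n) := by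
  haveI := GrpSchLib.AntiAffine.isSeparated_grp G
  obtain ⟨Z, _, i, hi, hic, hZ, Q, _, p, hp, hQa, hQl, hQq, hpf, hps, hker⟩ :=
    GrpSchLib.Adjoint.exists_centre_quot G
  haveI := hi; haveI := hic; haveI := hp; haveI := hQa; haveI := hQl; haveI := hQq; haveI := hpf; haveI := hps
  haveI : LocallyOfFiniteType Z.hom := by rw [← Over.w i]; infer_instance
  haveI : QuasiCompact Z.hom := by rw [← Over.w i]; infer_instance
  obtain ⟨Z0, _, e, he, heo, hec, hZ0⟩ := exists_neutral Z
  haveI := he; haveI := heo; haveI := hec; haveI := hZ0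
  let n := e ≫ i
  haveI : IsClosedImmersion n.left := by
    show IsClosedImmersion (e.left ≫ i.left)
    infer_instance
  have hcent : ∀ (X : Over 𝕊) (z : X ⟶ Z) (g : X ⟶ G), (z ≫ i) * g = g * (z ≫ i) := fun X z g => by
    have := (hZ.2.2 X (z ≫ i)).1 ⟨z, rfl⟩ X (𝟙 X) g
    simpa using this
  have hcn : ∀ (X : Over 𝕊) (z : X ⟶ Z0) (g : X ⟶ G), (z ≫ n) * g = g * (z ≫ n) := fun X z g => by
    have := hcent X (z ≫ e) g
    simpa [n, Category.assoc] using this
  have hn : AlgGrp.IsNormalHom n := fun T g z => ⟨z, by rw [← hcn T z g, mul_inv_cancel_right]⟩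
  obtain ⟨G₁, _, q, hq, hquot, hk, hsep, hlft, hqc, hsm, hcon⟩ := AGStr.QuotAlgClosed.exists_quotGrp G Z0 n hn
  haveI := hq; haveI := hsep; haveI := hlft; haveI := hqc
  haveI := hsm inferInstance
  haveI := hcon inferInstance
  obtain ⟨hqs, hqf, hql, hqpb⟩ := hquot
  haveI := hqs; haveI := hqf; haveI := hql
  -- the map to the affine quotient
  have hcov : FpqcDescLib.Covers q.left :=
    FpqcDescLib.covers_of_isCovering (FpqcDescLib.isCovering_of_lfp q.left)
  have hnp : n ≫ p = 1 := by
    rw [show n ≫ p = e ≫ i ≫ p from Category.assoc _ _ _, hker.w]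
    rw [← Category.assoc, toUnit_unique (e ≫ toUnit Z) (toUnit Z0)]
    rfl
  obtain ⟨r, ⟨hr, hrm⟩, -⟩ :=
    FpqcDescLib.exists_unique_hom hcov (FpqcDescLib.isCosetMap_of_isPullback hqpb) p hnp
  haveI := hrm
  haveI : QuasiCompact r.left := by
    haveI : QuasiCompact (r.left ≫ Q.hom) := by rw [Over.w r]; infer_instance
    exact QuasiCompact.of_comp r.left Q.hom
  refine ⟨G₁, inferInstance, q, Z0, inferInstance, n, hq, inferInstance, ?_, inferInstance, inferInstance, hqf, hqs,
    hql, hk, hZ0, hcn⟩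
  -- the kernel has finitely many points
  haveI : JacobsonSpace Z.left := LocallyOfFiniteType.jacobsonSpace Z.hom
  haveI : JacobsonSpace G₁.left := LocallyOfFiniteType.jacobsonSpace G₁.hom
  haveI : CompactSpace Z.left := (quasiCompact_iff_compactSpace Z.hom).mp inferInstance
  let pt : ↥(Spec (CommRingCat.of k)) := IsLocalRing.closedPoint k
  let W : (𝟙_ (Over 𝕊) ⟶ Z) → Set Z.left := fun a => (GrpSchLib.HomFinite.trans a).hom.left '' Set.range e.left
  have hW : ∀ a, IsOpen (W a) := fun a => by
    haveI : IsIso (GrpSchLib.HomFinite.trans a).hom.left :=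
      inferInstanceAs (IsIso ((Over.forget _).map (GrpSchLib.HomFinite.trans a).hom))
    exact (GrpSchLib.HomFinite.trans a).hom.left.homeomorph.isOpenMap _ e.left.isOpenEmbedding.isOpen_range
  have hunit : (η[Z].left pt : Z.left) ∈ Set.range e.left :=
    ⟨η[Z0].left pt, by rw [← Scheme.Hom.comp_apply, ← Over.comp_left, IsMonHom.one_hom]⟩
  have hmem : ∀ a, a.left pt ∈ W a := fun a => ⟨_, hunit, by
    rw [← Scheme.Hom.comp_apply, ← Over.comp_left]
    congr 2
    simp [GrpSchLib.HomFinite.trans, MonObj.comp_mul, MonObj.one_eq_one]⟩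
  have hcl : ∀ x : Z.left, IsClosed ({x} : Set Z.left) → ∃ a : 𝟙_ (Over 𝕊) ⟶ Z, a.left pt = x := fun x hx =>
    ⟨Over.homMk (pointOfClosedPoint Z.hom x hx) (pointOfClosedPoint_comp Z.hom x hx),
      pointOfClosedPoint_apply Z.hom x hx _⟩
  have hcover : Set.univ ⊆ ⋃ a, W a := by
    intro y _
    by_contra hy
    obtain ⟨x, hx, hxc⟩ := nonempty_inter_closedPoints (Z := (⋃ a, W a)ᶜ) ⟨y, hy⟩
      (isClosed_compl_iff.mpr (isOpen_iUnion hW)).isLocallyClosed
    obtain ⟨a, rfl⟩ := hcl x hxc
    exact hx (Set.mem_iUnion.mpr ⟨a, hmem a⟩)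
  obtain ⟨F, hF⟩ := isCompact_univ.elim_finite_subcover W hW hcover
  let y₀ := η[Q].left pt
  have hy₀ : IsClosed ({y₀} : Set Q.left) := by
    haveI := GrpSchLib.AntiAffine.isSeparated_grp Q
    have h1 := η[Q].left.isClosedEmbedding.isClosedMap _
      (isClosed_discrete (α := ↥(Spec (CommRingCat.of k))) {pt})
    exact (Set.image_singleton (f := (η[Q]).left)) ▸ h1
  have hfin : (r.left ⁻¹' {y₀}).Finite := by
    let Φ : Set G₁.left := (fun a : 𝟙_ (Over 𝕊) ⟶ Z => (a ≫ i ≫ q).left pt) '' (F : Set _)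
    have hΦ : Φ.Finite := F.finite_toSet.image _
    have hΦc : IsClosed Φ := by
      rw [← Set.biUnion_of_singleton Φ]
      refine hΦ.isClosed_biUnion ?_
      rintro _ ⟨a, -, rfl⟩
      exact ((pointEquivClosedPoint G₁.hom) ⟨(a ≫ i ≫ q).left, Over.w _⟩).2
    refine hΦ.subset ?_
    have hsub : r.left ⁻¹' {y₀} ∩ closedPoints G₁.left ⊆ Φ := by
      rintro x ⟨hx, hxc⟩
      let g₁ : 𝟙_ (Over 𝕊) ⟶ G₁ := Over.homMk (pointOfClosedPoint G₁.hom x hxc) (pointOfClosedPoint_comp G₁.hom x hxc)
      have hg₁ : g₁.left pt = x := pointOfClosedPoint_apply G₁.hom x hxc _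
      obtain ⟨g, hg⟩ := exists_point_lift q g₁
      have hgp : g ≫ p = η[Q] := by
        refine pt_eq_of_apply ?_
        rw [← hr, ← Category.assoc, hg, Over.comp_left, Scheme.Hom.comp_apply, hg₁]
        exact hx
      obtain ⟨z, hz, -⟩ : ∃ z : 𝟙_ (Over 𝕊) ⟶ Z, z ≫ i = g ∧ z ≫ toUnit Z = toUnit _ :=
        ⟨hker.lift g (toUnit _) (by rw [hgp, toUnit_unit, Category.id_comp]), hker.lift_fst _ _ _,
          hker.lift_snd _ _ _⟩
      obtain ⟨a, haF, w, hw, hwz⟩ := Set.mem_iUnion₂.mp (hF (Set.mem_univ (z.left pt)))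
      obtain ⟨v, rfl⟩ := hw
      refine ⟨a, haF, ?_⟩
      -- translate back into the neutral component
      have hzero : ((a⁻¹ * z) ≫ i ≫ q) = 1 := by
        have hin : (a⁻¹ * z).left pt ∈ Set.range e.left := by
          refine ⟨v, ?_⟩
          haveI : IsIso (GrpSchLib.HomFinite.trans a).hom.left :=
            inferInstanceAs (IsIso ((Over.forget _).map (GrpSchLib.HomFinite.trans a).hom))
          refine (GrpSchLib.HomFinite.trans a).hom.left.homeomorph.injective ?_
          refine hwz.trans ?_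
          conv_lhs => rw [show z = (a⁻¹ * z) ≫ (GrpSchLib.HomFinite.trans a).hom by simp [GrpSchLib.HomFinite.trans, MonObj.comp_mul]]
          rfl
        obtain ⟨v', hv'⟩ := hin
        let z0 : 𝟙_ (Over 𝕊) ⟶ Z0 := Over.homMk
          (IsOpenImmersion.lift e.left (a⁻¹ * z).left (by
            rintro _ ⟨t, rfl⟩
            exact ⟨v', by rw [hv', show t = pt from Subsingleton.elim (α := PrimeSpectrum k) _ _]⟩))
          (by rw [← Over.w e, IsOpenImmersion.lift_fac_assoc, Over.w (a⁻¹ * z)])
        have hz0 : z0 ≫ e = a⁻¹ * z := Over.OverMorphism.ext (IsOpenImmersion.lift_fac _ _ _)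
        rw [← hz0, Category.assoc, ← Category.assoc e i q, show (e ≫ i) ≫ q = toUnit Z0 ≫ η[G₁] from hk.w,
          ← Category.assoc, toUnit_unique (z0 ≫ toUnit Z0) (toUnit _)]
        rfl
      have : g₁ = a ≫ i ≫ q := by
        rw [← hg, ← hz]
        rw [MonObj.mul_comp, GrpObj.inv_comp, inv_mul_eq_one] at hzero
        rw [Category.assoc]
        exact hzero.symm
      rw [← hg₁, this]
    intro x hx
    have h2 : x ∈ closure (r.left ⁻¹' {y₀} ∩ closedPoints G₁.left) := by
      rw [closure_inter_closedPoints (hy₀.preimage r.left.continuous)]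
      exact hx
    exact hΦc.closure_subset (closure_mono hsub h2)
  haveI : LocallyQuasiFinite r.left := GrpSchLib.HomFinite.locallyQuasiFinite_of_finite_preimage r hfin
  haveI : IsFinite r.left := GrpSchLib.HomFinite.isFinite_of_isAlgClosed r
  exact isAffine_of_isAffineHom r.left

end TorusCent19
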