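import Groth.Agent.TorusCent19.Split
import Groth.Agent.TorusCent19.Isogeny

/-!
# The centralizer of a torus in a connected smooth group is connected
-/

set_option autoImplicit false
set_option linter.style.haveILetI false

universe u

open CategoryTheory CategoryTheory.Limits MonoidalCategory CartesianMonoidalCategory MonObj GrpObj AlgebraicGeometry
open scoped commutatorElement

noncomputable section

namespace TorusCent19

open Groth.Agent

/-- An open surjection with connected fibres over the closed points of a connected Jacobson space has connected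
source. -/
theorem connectedSpace_of_fibres {Y C : Type*} [TopologicalSpace Y] [TopologicalSpace C] [JacobsonSpace C]
    [ConnectedSpace C] (π : Y → C) (hopen : IsOpenMap π) (hsurj : Function.Surjective π)
    (hfib : ∀ x : C, IsClosed ({x} : Set C) → _root_.IsPreconnected (π ⁻¹' {x})) : ConnectedSpace Y := by
  refine connectedSpace_iff_clopen.mpr ⟨(hsurj (Classical.arbitrary C)).nonempty, fun U hU => ?_⟩
  by_cases hd : Disjoint (π '' U) (π '' Uᶜ)
  · have hcl : IsClopen (π '' U) := by
      refine ⟨?_, hopen _ hU.2⟩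
      have e : π '' U = (π '' Uᶜ)ᶜ := by
        refine Set.Subset.antisymm (fun c hc hc' => Set.disjoint_left.mp hd hc hc') fun c hc => ?_
        obtain ⟨y, rfl⟩ := hsurj c
        by_contra h
        exact hc ⟨y, fun hy => h ⟨y, hy, rfl⟩, rfl⟩
      rw [e]
      exact (hopen _ hU.1.isOpen_compl).isClosed_compl
    rcases isClopen_iff.mp hcl with h | h
    · exact Or.inl (Set.image_eq_empty.mp h)
    · refine Or.inr (Set.eq_univ_of_forall fun y => ?_)
      by_contra hy
      exact Set.disjoint_left.mp hd (h ▸ Set.mem_univ (π y)) ⟨y, hy, rfl⟩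
  · rw [Set.not_disjoint_iff] at hd
    obtain ⟨c, hc, hc'⟩ := hd
    obtain ⟨x, ⟨hx, hx'⟩, hxc⟩ := nonempty_inter_closedPoints (Z := π '' U ∩ π '' Uᶜ) ⟨c, hc, hc'⟩
      ((hopen _ hU.2).inter (hopen _ hU.1.isOpen_compl)).isLocallyClosed
    obtain ⟨a, ha, rfl⟩ := hx
    obtain ⟨b, hb, hba⟩ := hx'
    obtain ⟨z, -, hz1, hz2⟩ := hfib _ hxc U Uᶜ hU.2 hU.1.isOpen_compl (fun y _ => em (y ∈ U)) ⟨a, rfl, ha⟩
      ⟨b, hba, hb⟩
    exact absurd hz1 hz2

variable {k : Type u} [Field k] [IsAlgClosed k]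

local notation "𝕊" => Spec (CommRingCat.of k)

omit [IsAlgClosed k] in
/-- The pullback in the category of schemes over the base. -/
theorem exists_pullback {A B C : Over 𝕊} (f : A ⟶ C) (g : B ⟶ C) :
    ∃ (Y : Over 𝕊) (π : Y ⟶ A) (y : Y ⟶ B), IsPullback π.left y.left f.left g.left ∧
      π ≫ f = y ≫ g ∧ ∀ (X : Over 𝕊) (a : X ⟶ A) (b : X ⟶ B), a ≫ f = b ≫ g → ∃ l : X ⟶ Y, l ≫ π = a ∧ l ≫ y = b := by
  refine ⟨Over.mk (pullback.fst f.left g.left ≫ A.hom), Over.homMk (pullback.fst f.left g.left) rfl,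
    Over.homMk (pullback.snd f.left g.left) ?_, IsPullback.of_hasPullback _ _, Over.OverMorphism.ext pullback.condition, ?_⟩
  · show pullback.snd f.left g.left ≫ B.hom = pullback.fst f.left g.left ≫ A.hom
    rw [← Over.w g, ← Over.w f, pullback.condition_assoc]
  · intro X a b h
    refine ⟨Over.homMk (pullback.lift a.left b.left (by rw [← Over.comp_left, h, Over.comp_left])) ?_,
      Over.OverMorphism.ext (pullback.lift_fst _ _ _), Over.OverMorphism.ext (pullback.lift_snd _ _ _)⟩
    show pullback.lift a.left b.left _ ≫ pullback.fst f.left g.left ≫ A.hom = X.hom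
    rw [pullback.lift_fst_assoc, Over.w a]

/-- The centralizer of a torus in a connected smooth group is connected. -/
theorem connected_centralizer {G T C : Over 𝕊} [GrpObj G] [GrpObj T] [GrpObj C] [Smooth G.hom] [QuasiCompact G.hom]
    [ConnectedSpace G.left] (hT : Red.IsTorus T) (t : T ⟶ G) [IsMonHom t] {c : C ⟶ G}
    (hC : Red.IsCentralizerOf t c) : ConnectedSpace C.left := by
  haveI := GrpSchLib.AntiAffine.isSeparated_grp G
  obtain ⟨G₁, _, q, N, _, n, hq, hn, haff, hsm₁, hcon₁, hqf, hqs, hql, hk, hN, hcentral⟩ := exists_affine_extension G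
  haveI := hq; haveI := hn; haveI := haff; haveI := hsm₁; haveI := hcon₁; haveI := hqf; haveI := hqs; haveI := hql
  haveI := hN
  haveI : IsSeparated G₁.hom := inferInstance
  haveI : IsMonHom (t ≫ q) := inferInstance
  obtain ⟨C₁, _, c₁, hC₁, hcl, hsm⟩ := SgaFix20.exists_centralizer_smooth
    (torus_locally hT) (t ≫ q)
  haveI := hC₁.1; haveI := hC₁.2.1; haveI := hcl; haveI := hsm
  haveI := connected_centralizer_affine hT (t ≫ q) hC₁
  -- the preimage of the centralizer
  obtain ⟨Y, π, y, hpb, hcond, hlift⟩ := exists_pullback c₁ q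
  haveI : Flat π.left := MorphismProperty.of_isPullback (P := @Flat) hpb.flip hqf
  haveI : LocallyOfFinitePresentation π.left :=
    MorphismProperty.of_isPullback (P := @LocallyOfFinitePresentation) hpb.flip hql
  haveI : Surjective π.left := MorphismProperty.of_isPullback (P := @Surjective) hpb.flip hqs
  haveI : LocallyOfFiniteType C₁.hom := inferInstance
  haveI : JacobsonSpace C₁.left := LocallyOfFiniteType.jacobsonSpace C₁.hom
  haveI : LocallyOfFiniteType Y.hom := by
    rw [← Over.w π]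
    infer_instance
  haveI : JacobsonSpace Y.left := LocallyOfFiniteType.jacobsonSpace Y.hom
  let pt : ↥(Spec (CommRingCat.of k)) := IsLocalRing.closedPoint k
  have hnq : n ≫ q = 1 := hk.w
  haveI : ConnectedSpace Y.left := by
    refine connectedSpace_of_fibres π.left π.left.isOpenMap π.left.surjective fun x hx => ?_
    let x₁ : 𝟙_ (Over 𝕊) ⟶ C₁ := Over.homMk (pointOfClosedPoint C₁.hom x hx) (pointOfClosedPoint_comp C₁.hom x hx)
    have hx₁ : x₁.left pt = x := pointOfClosedPoint_apply C₁.hom x hx _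
    obtain ⟨y₁, hy₁⟩ := exists_point_lift π x₁
    obtain ⟨ν, hν1, hν2⟩ := hlift N (toUnit N ≫ x₁) (n * (toUnit N ≫ y₁ ≫ y)) (by
      rw [MonObj.mul_comp, hnq, _root_.one_mul, ← hy₁]
      simp only [Category.assoc, hcond])
    have hsub : Set.range ν.left ⊆ π.left ⁻¹' {x} := by
      rintro _ ⟨a, rfl⟩
      show π.left (ν.left a) = x
      rw [← Scheme.Hom.comp_apply, ← Over.comp_left, hν1, Over.comp_left, Scheme.Hom.comp_apply,
        show (toUnit N).left a = pt from Subsingleton.elim (α := PrimeSpectrum k) _ _, hx₁]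
    have hF : IsClosed (π.left ⁻¹' {x}) := hx.preimage π.left.continuous
    have hdense : π.left ⁻¹' {x} ⊆ closure (Set.range ν.left) := by
      refine (closure_inter_closedPoints hF).symm.subset.trans (closure_mono ?_)
      rintro z ⟨hz, hzc⟩
      let z₁ : 𝟙_ (Over 𝕊) ⟶ Y := Over.homMk (pointOfClosedPoint Y.hom z hzc) (pointOfClosedPoint_comp Y.hom z hzc)
      have hz₁ : z₁.left pt = z := pointOfClosedPoint_apply Y.hom z hzc _
      have e : z₁ ≫ π = x₁ := by
        refine pt_eq_of_apply ?_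
        rw [Over.comp_left, Scheme.Hom.comp_apply, hz₁, hx₁]
        exact hz
      have e2 : ((z₁ ≫ y) * (y₁ ≫ y)⁻¹) ≫ q = η[G₁] := by
        rw [MonObj.mul_comp, GrpObj.inv_comp, Category.assoc, Category.assoc, ← hcond, reassoc_of% e, reassoc_of% hy₁,
          mul_inv_cancel]
        rfl
      let w : 𝟙_ (Over 𝕊) ⟶ N := hk.lift ((z₁ ≫ y) * (y₁ ≫ y)⁻¹) (toUnit _) (by rw [e2, toUnit_unit, Category.id_comp])
      have hw : w ≫ n = (z₁ ≫ y) * (y₁ ≫ y)⁻¹ := hk.lift_fst _ _ _
      have : w ≫ ν = z₁ := by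
        refine Over.OverMorphism.ext (hpb.hom_ext ?_ ?_)
        · rw [← Over.comp_left, ← Over.comp_left, Category.assoc, hν1, ← Category.assoc, comp_toUnit, toUnit_unit,
            Category.id_comp, e]
        · rw [← Over.comp_left, ← Over.comp_left, Category.assoc, hν2, MonObj.comp_mul, hw, ← Category.assoc w,
            comp_toUnit, toUnit_unit, Category.id_comp, inv_mul_cancel_right]
      exact ⟨w.left pt, by rw [← Scheme.Hom.comp_apply, ← Over.comp_left, this, hz₁]⟩
    exact (isPreconnected_range ν.left.continuous).subset_closure hsub hdense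
  -- it centralizes the torus
  have hu : ⁅fst Y T ≫ y, snd Y T ≫ t⁆ = 1 := by
    have huq : ∀ (X : Over 𝕊) (a : X ⟶ Y) (b : X ⟶ T), ⁅a ≫ y, b ≫ t⁆ ≫ q = toUnit X ≫ η[G₁] := by
      intro X a b
      have h1 : ((a ≫ π) ≫ c₁) * (b ≫ t ≫ q) = (b ≫ t ≫ q) * ((a ≫ π) ≫ c₁) := by
        have := (hC₁.2.2 X ((a ≫ π) ≫ c₁)).1 ⟨a ≫ π, rfl⟩ X (𝟙 X) b
        simpa using this
      rw [Category.assoc, hcond, ← Category.assoc] at h1
      simp only [commutatorElement_def, MonObj.mul_comp, GrpObj.inv_comp, Category.assoc]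
      simp only [Category.assoc] at h1
      rw [h1, mul_inv_cancel_right, mul_inv_cancel]
      rfl
    have hcen : ∀ (X : Over 𝕊) (a : X ⟶ Y) (b : X ⟶ T) (g : X ⟶ G), Commute ⁅a ≫ y, b ≫ t⁆ g := by
      intro X a b g
      have hl := hk.lift_fst ⁅a ≫ y, b ≫ t⁆ (toUnit X) (huq X a b)
      rw [← hl]
      exact hcentral X _ g
    obtain ⟨y₀, hy₀1, hy₀2⟩ := hlift (𝟙_ _) 1 1 (by rw [MonObj.one_comp, MonObj.one_comp])
    refine rigid (GrpSchLib.RankOne.isMultTypeFT_of_isTorus hT) Y y₀ _ ?_ ?_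
    · intro X a b b'
      simp only [comp_comm, lift_fst_assoc, lift_snd_assoc, MonObj.mul_comp]
      rw [show ⁅a ≫ y, (b ≫ t) * (b' ≫ t)⁆ = ⁅a ≫ y, b ≫ t⁆ * ((b ≫ t) * ⁅a ≫ y, b' ≫ t⁆ * (b ≫ t)⁻¹) by
        simp only [commutatorElement_def]; group]
      rw [← (hcen X a b' (b ≫ t)).eq, mul_inv_cancel_right]
    · intro X b
      simp only [comp_comm, lift_fst_assoc, lift_snd_assoc, Category.assoc, hy₀2, MonObj.comp_one,
        commutatorElement_one_left]
  obtain ⟨v, hv⟩ := (hC.2.2 Y y).2 fun X' x h => by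
    have h2 := congrArg (lift x h ≫ ·) hu
    simp only [comp_comm, lift_fst_assoc, lift_snd_assoc, MonObj.comp_one] at h2
    exact commutatorElement_eq_one_iff_commute.1 h2
  haveI := hC.1
  haveI := hC.2.1
  obtain ⟨C', _, c', hC', hcl', hsm'⟩ := SgaFix20.exists_centralizer_smooth
    (torus_locally hT) t
  obtain ⟨e, he⟩ := exists_iso_of_centralizer hC hC'
  haveI : LocallyOfFiniteType C.hom := by
    haveI := hsm'
    haveI : IsIso e.hom.left := inferInstanceAs (IsIso ((Over.forget _).map e.hom))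
    rw [← Over.w e.hom]
    infer_instance
  haveI : JacobsonSpace C.left := LocallyOfFiniteType.jacobsonSpace C.hom
  have hdense : closure (Set.range v.left) = Set.univ := by
    refine Set.univ_subset_iff.mp ((closure_inter_closedPoints isClosed_univ).symm.subset.trans (closure_mono ?_))
    rintro z ⟨-, hzc⟩
    let z₁ : 𝟙_ (Over 𝕊) ⟶ C := Over.homMk (pointOfClosedPoint C.hom z hzc) (pointOfClosedPoint_comp C.hom z hzc)
    have hz₁ : z₁.left pt = z := pointOfClosedPoint_apply C.hom z hzc _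
    obtain ⟨a, ha⟩ := (hC₁.2.2 _ ((z₁ ≫ c) ≫ q)).2 fun X' x h => by
      have := congrArg (fun m => m ≫ q) ((hC.2.2 _ (z₁ ≫ c)).1 ⟨z₁, rfl⟩ X' x h)
      simpa only [MonObj.mul_comp, Category.assoc] using this
    obtain ⟨l, -, hl⟩ := hlift _ a (z₁ ≫ c) ha
    have : l ≫ v = z₁ := by rw [← cancel_mono c, Category.assoc, hv, hl]
    exact ⟨l.left pt, by rw [← Scheme.Hom.comp_apply, ← Over.comp_left, this, hz₁]⟩
  refine connectedSpace_iff_univ.mpr ?_
  rw [← hdense]
  exact (isConnected_range v.left.continuous).closure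

end TorusCent19
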