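import Groth.Agent.TorusCent19.Unip
import Groth.Agent.AGFRoot.MaxTorusConj
import Groth.Agent.GrpSchLib.NormalQuot
import Groth.Agent.TorusCent19.Main

/-!
# Homomorphisms from groups of multiplicative type into a group with central maximal torus
-/

set_option autoImplicit false
set_option linter.style.haveILetI false

universe u

open CategoryTheory CategoryTheory.Limits MonoidalCategory CartesianMonoidalCategory MonObj GrpObj AlgebraicGeometry
open TensorProduct WithConv

noncomputable section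

namespace TorusCent19

open Groth.Agent
open Groth.Agent.GrpSchLib.AffineHopf (sp spMap)

variable {k : Type u} [Field k]

/-- A trigonalisable group without characters is unipotent. -/
theorem isUnipotent_of_trigonalizable {A : Type u} [CommRing A] [HopfAlgebra k A]
    (hT : HopfRep.IsTrigonalizable k A) (h : ∀ a : A, IsGroupLikeElem k a → a = 1) : HopfRep.IsUnipotent k A := by
  intro V _ _ cV hfin hnt
  obtain ⟨F, -, hsub, -, hrank⟩ := ComodLib.exists_flag hT V
  have h1 : Module.finrank k (F 1) = 1 := hrank 1 (Module.finrank_pos (R := k) (M := V))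
  obtain ⟨⟨w, hw⟩, hw0, hspan⟩ := finrank_eq_one_iff'.mp h1
  have hw0' : w ≠ 0 := fun e => hw0 (Subtype.ext e)
  obtain ⟨z, hz⟩ := hsub 1 w hw
  obtain ⟨a, rfl⟩ : ∃ a : A, z = (⟨w, hw⟩ : F 1) ⊗ₜ[k] a := by
    clear hz
    induction z using TensorProduct.induction_on with
    | zero => exact ⟨0, (tmul_zero _ _).symm⟩
    | tmul p q =>
      obtain ⟨c, hc⟩ := hspan p
      exact ⟨c • q, by rw [← hc, ← smul_tmul]⟩
    | add p q hp hq =>
      obtain ⟨a, rfl⟩ := hp
      obtain ⟨b, rfl⟩ := hq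
      exact ⟨a + b, (tmul_add _ _ _).symm⟩
  have hco : HopfRep.Comod.coact (k := k) (A := A) w = w ⊗ₜ[k] a := hz.symm
  obtain ⟨φ, hφ⟩ : ∃ φ : V →ₗ[k] k, φ w = 1 := by
    obtain ⟨f, hf⟩ : ∃ f : Module.Dual k V, f w ≠ 0 := by
      by_contra hh
      push Not at hh
      exact hw0' ((Module.forall_dual_apply_eq_zero_iff k w).mp hh)
    exact ⟨(f w)⁻¹ • f, by simp [hf]⟩
  have hcounit : Coalgebra.counit (R := k) a = 1 := by
    have e := congr(φ (TensorProduct.rid k V ($(HopfRep.Comod.counit_comp (k := k) (A := A) (V := V)) w)))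
    simpa [hco, hφ] using e
  have hcomul : Coalgebra.comul (R := k) a = a ⊗ₜ[k] a := by
    have e := congr(TensorProduct.lid k (A ⊗[k] A) (φ.rTensor (A ⊗[k] A)
      ($(HopfRep.Comod.coassoc (k := k) (A := A) (V := V)) w)))
    simpa [hco, hφ] using e.symm
  have ha := h a ⟨hcounit, hcomul⟩
  exact (Submodule.ne_bot_iff _).mpr ⟨w, show _ = w ⊗ₜ[k] (1 : A) by rw [hco, ha], hw0'⟩

/-- A group of multiplicative type has no non-trivial homomorphism to a unipotent group. -/
theorem eq_one_of_isUnipotent {H : Over (Spec (CommRingCat.of k))} [GrpObj H] (hH : SGA3x.IsMultTypeFT H)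
    {A : Type u} [CommRing A] [HopfAlgebra k A] [Algebra.FiniteType k A] (hU : HopfRep.IsUnipotent k A)
    (v : H ⟶ sp k A) [IsMonHom v] : v = 1 := by
  haveI : IsAffine (sp k A).left := inferInstanceAs (IsAffine (Spec (CommRingCat.of A)))
  have hone : IsMonHom (1 : H ⟶ sp k A) :=
    GrpSchLib.RankOne.isMonHom_of_comp _ fun W a b => by simp [MonObj.comp_one]
  refine Over.OverMorphism.ext (ext_of_isAffine (CommRingCat.hom_ext (RingHom.ext fun z => ?_)))
  obtain ⟨x, rfl⟩ : ∃ x, (Scheme.ΓSpecIso (CommRingCat.of A)).inv x = z :=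
    (ConcreteCategory.bijective_of_isIso (Scheme.ΓSpecIso (CommRingCat.of A)).inv).2 z
  let c := Coalgebra.counit (R := k) x
  have hx : Coalgebra.counit (R := k) (x - algebraMap k A c) = 0 := by
    rw [map_sub, Bialgebra.counit_algebraMap, sub_self]
  have main : ∀ (f : H ⟶ sp k A), IsMonHom f →
      f.left.appTop ((Scheme.ΓSpecIso (CommRingCat.of A)).inv x) =
        H.hom.appTop ((Scheme.ΓSpecIso (CommRingCat.of k)).inv c) := fun f hf => by
    haveI := hf
    have h1 := kill_unip hU hH f hx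
    erw [map_sub, map_sub, sub_eq_zero] at h1
    rw [h1, ← Over.w f, Scheme.Hom.comp_appTop, ConcreteCategory.comp_apply]
    exact congrArg _ (appTop_specMap (algebraMap k A) c).symm
  exact (main v ‹_›).trans (main 1 hone).symm

variable [IsAlgClosed k]

open Groth.Agent.AGFRoot in
set_option maxHeartbeats 1000000 in
/-- The quotient by a central maximal torus has no subtori. -/
theorem hasNoSubtorus_quot {C Q T : Over (Spec (CommRingCat.of k))} [GrpObj C] [GrpObj Q] [GrpObj T]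
    [IsAffine C.left] [Smooth C.hom] [ConnectedSpace C.left] [IsAffine Q.left] [Smooth Q.hom] [ConnectedSpace Q.left]
    {t : T ⟶ C} (hT : AGF.IsMaxTorus t)
    (hcen : ∀ (X : Over (Spec (CommRingCat.of k))) (a : X ⟶ T) (g : X ⟶ C), (a ≫ t) * g = g * (a ≫ t))
    (q : C ⟶ Q) [IsMonHom q] [Surjective q.left] (hker : t ≫ q = 1) : Red.HasNoSubtorus k Q := by
  intro S _ jS _ _ hS
  haveI := hT.1
  haveI := hT.2.1
  obtain ⟨B', _, iB', s, hB', hs⟩ := SolvSch.exists_borel_containing jS hS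
  obtain ⟨B, _, iB, p, hB, hp, hpq⟩ := exists_borel_onto q hB'
  haveI := hB.1; haveI := hB.2.1; haveI := SolvSch.mono_of_closed iB
  haveI := hB.2.2.1; haveI := hB.2.2.2.1
  haveI : IsAffine B.left := isAffine_of_isAffineHom iB.left
  haveI := hB'.1; haveI := hB'.2.1; haveI := SolvSch.mono_of_closed iB'
  haveI := hB'.2.2.1; haveI := hB'.2.2.2.1
  haveI : IsAffine B'.left := isAffine_of_isAffineHom iB'.left
  haveI := hp
  haveI : IsMonHom p := SolvSch.isMonHom_of_mono iB' p (iB ≫ q) hpq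
  haveI : IsMonHom s := SolvSch.isMonHom_of_mono iB' s jS hs
  have hfix : ∀ g, AGF.conjBy g t = t := fun g => by
    show (toUnit T ≫ g) * t * (toUnit T ≫ g)⁻¹ = t
    have e := hcen T (𝟙 T) (toUnit T ≫ g)
    rw [Category.id_comp] at e
    rw [← e, mul_inv_cancel_right]
  obtain ⟨B₀, _, iB₀, t₀, hB₀, ht₀⟩ := SolvSch.exists_borel_containing t hT.2.2.1
  obtain ⟨g₀, f₀, hf₀⟩ := borel_conj hB₀ hB
  have htB : (t₀ ≫ f₀.hom) ≫ iB = t := by rw [Category.assoc, hf₀, comp_conjBy, ht₀, hfix]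
  haveI : IsMonHom (t₀ ≫ f₀.hom) := SolvSch.isMonHom_of_mono iB _ t htB
  obtain ⟨T₀, _, j₀, _, _, hT₀, key⟩ := SolvSch.exists_torus_conj_le hB.2.2.2.2.1
  haveI : Mono (j₀ ≫ iB) := mono_comp _ _
  obtain ⟨g, f, _, hf⟩ := key T (t₀ ≫ f₀.hom) hT.2.2.1
  have hf' : f ≫ j₀ ≫ iB = t := by
    rw [← Category.assoc, hf, conjBy_comp, htB, hfix]
  haveI : IsIso f := hT.2.2.2 T₀ (j₀ ≫ iB) f hT₀ hf'
  have hj₀ : j₀ ≫ p = 1 := by
    rw [← cancel_mono iB', MonObj.one_comp, Category.assoc, hpq, ← Category.assoc,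
      (IsIso.eq_inv_comp f).mpr hf', Category.assoc, hker, MonObj.comp_one]
  obtain ⟨A, _, _, _, eB, _⟩ := SolvSch.exists_coords B
  obtain ⟨A', _, _, _, eB', _⟩ := SolvSch.exists_coords B'
  obtain ⟨-, _⟩ := SolvSch.isDomain_coords eB
  obtain ⟨-, _⟩ := SolvSch.isDomain_coords eB'
  have hTA := SolvSch.isTrigonalizable_coords eB hB.2.2.2.2.1
  have hTA' := SolvSch.isTrigonalizable_coords eB' hB'.2.2.2.2.1
  obtain ⟨Θ, hΘ⟩ := Solv.exists_splitting hTA
  haveI : IsMonHom eB'.inv := (Grp.mkIso' eB').inv.hom.isMonHom_hom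
  obtain ⟨pm, hpm⟩ := GrpSchLib.AffineHopf.exists_bialgHom (eB.hom ≫ p ≫ eB'.inv)
  let D := sp k (MonoidAlgebra k (GroupLike k A))
  have hD : Red.IsTorus D := by
    haveI : Group.FG (GroupLike k A) := Group.fg_iff_monoid_fg.mpr inferInstance
    haveI : AddGroup.FG (Additive (GroupLike k A)) := AddGroup.fg_of_group_fg
    haveI : Module.Finite ℤ (Additive (GroupLike k A)) := Module.Finite.iff_addGroup_fg.mpr inferInstance
    obtain ⟨n, b⟩ := Module.basisOfFiniteTypeTorsionFree' (R := ℤ) (M := Additive (GroupLike k A))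
    let e : Multiplicative (Fin n → ℤ) ≃* GroupLike k A := (b.equivFun.toAddEquiv.symm).toMultiplicativeLeft
    obtain ⟨d⟩ := GrpSchLib.AffineHopf.nonempty_DS_iso k (Fin n → ℤ)
    exact MaxTorusLib.isTorus_of_iso
      (GrpSchLib.AffineHopf.spIso (MonoidAlgebra.domCongrBialgEquiv k k e) ≪≫ d) (MaxTorusLib.isTorus_DS _ n)
  let jΘ : D ⟶ B := spMap (Θ : A →ₐ[k] MonoidAlgebra k (GroupLike k A)) ≫ eB.hom
  haveI hm₁ : IsMonHom (spMap (Θ : A →ₐ[k] MonoidAlgebra k (GroupLike k A))) := GrpSchLib.AffineHopf.isMonHom_spMap Θ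
  haveI : IsMonHom jΘ :=
    { one_hom := by simp only [jΘ]; rw [← Category.assoc, IsMonHom.one_hom (f := spMap (Θ : A →ₐ[k] MonoidAlgebra k (GroupLike k A))), IsMonHom.one_hom]
      mul_hom := by
        simp only [jΘ]
        rw [← Category.assoc, IsMonHom.mul_hom (f := spMap (Θ : A →ₐ[k] MonoidAlgebra k (GroupLike k A))), Category.assoc,
          IsMonHom.mul_hom (f := eB.hom), ← Category.assoc, MonoidalCategory.tensorHom_comp_tensorHom] }
  obtain ⟨g₁, f₁, _, hf₁⟩ := key D jΘ hD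
  have hjΘ : jΘ ≫ p = 1 := by
    have e : jΘ = AGF.conjBy g₁⁻¹ (f₁ ≫ j₀) := by rw [hf₁, conjBy_inv_cancel']
    rw [e, conjBy_comp, Category.assoc, hj₀, MonObj.comp_one, AGF.conjBy, _root_.mul_one, mul_inv_cancel]
  have hcomp : spMap (((Θ : A →ₐc[k] MonoidAlgebra k (GroupLike k A)).comp pm : A' →ₐc[k] _) : A' →ₐ[k] MonoidAlgebra k (GroupLike k A)) = 1 := by
    rw [show ((((Θ : A →ₐc[k] MonoidAlgebra k (GroupLike k A)).comp pm : A' →ₐc[k] _) : A' →ₐ[k] MonoidAlgebra k (GroupLike k A))) =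
      (Θ : A →ₐ[k] MonoidAlgebra k (GroupLike k A)).comp (pm : A' →ₐ[k] A) from rfl, ← GrpSchLib.AffineHopf.spMap_comp, ← hpm,
      ← Category.assoc, ← Category.assoc, show (spMap (Θ : A →ₐ[k] MonoidAlgebra k (GroupLike k A)) ≫ eB.hom) ≫ p = 1 from hjΘ, MonObj.one_comp]
  have hpmInj : Function.Injective pm := by
    refine (injective_iff_map_eq_zero pm).mpr fun x hx => AlgGrpQ.eq_zero_of_points (k := k) fun y => ?_
    obtain ⟨a, ha⟩ := AGFRoot.exists_point_over p (SolvSch.pts eB' y)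
    obtain ⟨y₁, rfl⟩ := (SolvSch.pts_bijective eB).2 a
    have e : y = toConv (y₁.ofConv.comp (pm : A' →ₐ[k] A)) := (SolvSch.pts_bijective eB').1 (by
      rw [← ha, SolvSch.pts_apply, SolvSch.pts_apply, ofConv_toConv, ← GrpSchLib.AffineHopf.spMap_comp, ← hpm]
      simp only [Category.assoc, Iso.inv_hom_id, Category.comp_id])
    rw [e]
    show y₁.ofConv (pm x) = 0
    rw [hx, map_zero]
  have hchar : ∀ a : A', IsGroupLikeElem k a → a = 1 := fun a ha => by
    have hga : IsGroupLikeElem k (pm a) := ha.map pm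
    have h1 : Θ (pm a) = MonoidAlgebra.single (⟨pm a, hga⟩ : GroupLike k A) 1 := by
      have := hΘ (MonoidAlgebra.single (⟨pm a, hga⟩ : GroupLike k A) 1)
      rwa [Solv.chr_single, one_smul] at this
    have h0 : ((((Θ : A →ₐc[k] MonoidAlgebra k (GroupLike k A)).comp pm : A' →ₐc[k] _) : A' →ₐ[k] MonoidAlgebra k (GroupLike k A))) =
        (1 : WithConv (A' →ₐ[k] MonoidAlgebra k (GroupLike k A))).ofConv := by
      refine GrpSchLib.AffineHopf.spMap_injective (hcomp.trans ?_)
      exact (map_one Spec.mapMulEquiv).symm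
    have h2 : Θ (pm a) = MonoidAlgebra.single 1 1 := by
      have := AlgHom.congr_fun h0 a
      simpa [ha.counit_eq_one] using this
    have h3 : (⟨pm a, hga⟩ : GroupLike k A) = 1 := by
      rw [h1] at h2
      exact MonoidAlgebra.single_left_injective one_ne_zero h2
    exact hpmInj ((congrArg GroupLike.val h3).trans (map_one pm).symm)
  have hsone : s ≫ eB'.inv = 1 := eq_one_of_isUnipotent (GrpSchLib.RankOne.isMultTypeFT_of_isTorus hS)
    (isUnipotent_of_trigonalizable hTA' hchar) _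
  have hone : jS = 1 := by
    rw [← hs, ← Category.comp_id s, ← eB'.inv_hom_id, reassoc_of% hsone, MonObj.one_comp, MonObj.one_comp]
  have hid : 𝟙 S = toUnit S ≫ η[S] := by
    rw [← cancel_mono jS, Category.id_comp, Category.assoc, IsMonHom.one_hom, hone]
    rfl
  show IsIso S.hom
  refine ⟨η[S].left, ?_, Over.w η[S]⟩
  exact (congrArg (fun z => z.left) hid).symm

/-- Into a connected group with central maximal torus, groups of multiplicative type map through the torus. -/
theorem exists_factor_centre {C T H : Over (Spec (CommRingCat.of k))} [GrpObj C] [GrpObj T] [GrpObj H]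
    [IsAffine C.left] [Smooth C.hom] [ConnectedSpace C.left] {t : T ⟶ C} (hT : AGF.IsMaxTorus t)
    (hcen : ∀ (X : Over (Spec (CommRingCat.of k))) (a : X ⟶ T) (g : X ⟶ C), (a ≫ t) * g = g * (a ≫ t))
    (hH : SGA3x.IsMultTypeFT H) (u : H ⟶ C) [IsMonHom u] : ∃ w : H ⟶ T, w ≫ t = u := by
  haveI := hT.1
  haveI := hT.2.1
  haveI := AGFRoot.SolvSch.isClosedImmersion_torus t hT.2.2.1
  have hnorm : AlgGrp.IsNormalHom t := fun X g n => ⟨n, by rw [← hcen X n g, mul_inv_cancel_right]⟩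
  obtain ⟨Q, _, q, _, _, hlft, hflat, hsurj, hk⟩ := GrpSchLib.NormalQuot.exists_quot C T t hnorm
  haveI := hlft; haveI := hflat; haveI := hsurj
  haveI : IsReduced C.left := GrpSchLib.isReduced_of_smooth_field C.hom
  haveI : IsReduced Q.left := FBaseLib.isReduced_of_flat_surjective q.left
  haveI : Smooth Q.hom := GrpSchLib.smooth_of_isReduced_of_isAlgClosed Q
  haveI : ConnectedSpace Q.left := AGFRoot.connectedSpace_of_surjective q.left
  have hker : t ≫ q = 1 := hk.w
  have hno := hasNoSubtorus_quot hT hcen q hker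
  have hu : u ≫ q = 1 := eq_one_of_noSubtorus hH hno (u ≫ q)
  exact ⟨hk.lift u (toUnit H) hu, hk.lift_fst _ _ _⟩

/-- A central homomorphism from a group of multiplicative type factors through every maximal torus. -/
theorem exists_factor_field {G T H : Over (Spec (CommRingCat.of k))} [GrpObj G] [GrpObj T] [GrpObj H]
    [IsAffine G.left] [Smooth G.hom] [ConnectedSpace G.left] {i : T ⟶ G} (hT : AGF.IsMaxTorus i)
    (hH : SGA3x.IsMultTypeFT H) (u : H ⟶ G) [IsMonHom u]
    (hc : ∀ (X : Over (Spec (CommRingCat.of k))) (x : X ⟶ H) (g : X ⟶ G), (x ≫ u) * g = g * (x ≫ u)) :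
    ∃ w : H ⟶ T, w ≫ i = u := by
  haveI := hT.1
  haveI := hT.2.1
  obtain ⟨C, _, c, hC, hcl, hsm⟩ := SgaFix20.exists_centralizer_smooth (torus_locally hT.2.2.1) i
  haveI := hC.1; haveI := hC.2.1; haveI := hcl; haveI := hsm
  haveI : IsAffine C.left := isAffine_of_isAffineHom c.left
  haveI := connected_centralizer hT.2.2.1 i hC
  obtain ⟨t, ht⟩ := (hC.2.2 T i).2 fun X x h => by
    rw [← MonObj.mul_comp, ← MonObj.mul_comp, GrpSchLib.RankOne.torus_mul_comm hT.2.2.1]
  haveI : IsMonHom t := isMonHom_of_fac c t i ht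
  obtain ⟨v, hv⟩ := (hC.2.2 H u).2 fun X x h => hc X x (h ≫ i)
  haveI : IsMonHom v := isMonHom_of_fac c v u hv
  have hcen : ∀ (X : Over (Spec (CommRingCat.of k))) (a : X ⟶ T) (g : X ⟶ C), (a ≫ t) * g = g * (a ≫ t) :=
    fun X a g => by
      refine (cancel_mono c).mp ?_
      rw [MonObj.mul_comp, MonObj.mul_comp, Category.assoc, ht]
      exact ((hC.2.2 C c).1 ⟨𝟙 C, Category.id_comp c⟩ X g a).symm
  obtain ⟨w, hw⟩ := exists_factor_centre (AGFRoot.SolvSch.isMaxTorus_of_fac hT c t ht) hcen hH v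
  exact ⟨w, by rw [← ht, ← Category.assoc, hw, hv]⟩

end TorusCent19
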