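import Groth.Agent.TorusCent19.Base
import Groth.Agent.AGFRoot.AffBridge
import Groth.Agent.DynLib41.Connected
import Groth.Agent.S3309
import Mathlib.RingTheory.HopfAlgebra.MonoidAlgebra

/-!
# The centralizer of a one-parameter subgroup of a connected affine group is connected

The centralizer is a retract of the attracting subgroup `P(λ)`, which is connected.
-/

set_option autoImplicit false
set_option linter.style.haveILetI false

universe u

open CategoryTheory CategoryTheory.Limits MonoidalCategory CartesianMonoidalCategory MonObj GrpObj AlgebraicGeometry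
open LaurentPolynomial TensorProduct
open WithConv

noncomputable section

namespace TorusCent19

open Groth.Agent.GrpSchLib.AffineHopf Groth.Agent
open scoped Groth.Agent.DynLib41

variable {k : Type u} [Field k]

section Hopf

variable {A : Type u} [CommRing A] [HopfAlgebra k A]

/-- The centralizer ideal of a one-parameter subgroup leaves a quotient without idempotents. -/
theorem exists_ideal_centralizer [Algebra.FiniteType k A] (lam : A →ₐc[k] k[T;T⁻¹])
    (hA : ∀ e : A, IsIdempotentElem e → e = 0 ∨ e = 1) :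
    ∃ J : Ideal A, (∀ e : A ⧸ J, IsIdempotentElem e → e = 0 ∨ e = 1) ∧ Nontrivial (A ⧸ J) ∧
      Dyn.Represents k A J
        (fun R _ _ g => Dyn.conjOrbit k A lam R g = (IsScalarTower.toAlgHom k R R[T;T⁻¹]).comp g) := by
  obtain ⟨lamNeg, hneg⟩ := DynLib41.exists_lamNeg lam
  let Jp := DynLib41.idealExists lam
  haveI := DynLib41.isHopfIdeal_idealExists lam
  haveI := DynLib41.isHopfIdeal_idealExists lamNeg
  have hp := DynLib41.represents_idealExists lam
  let Jz := Jp ⊔ DynLib41.idealExists lamNeg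
  have hz := Groth.Agent.S3309.result k A lam lamNeg hneg Jp (DynLib41.idealExists lamNeg) hp
    (DynLib41.represents_idealExists lamNeg)
  have hP := DynLib41.isIdempotentElem_quotient_exists lam hp hA
  let mkp := Ideal.Quotient.mkₐ k Jp
  obtain ⟨h, hh⟩ := (hp (A ⧸ Jp) mkp).1 fun x hx => Ideal.Quotient.eq_zero_iff_mem.2 hx
  let r₀ : A →ₐ[k] A ⧸ Jp := (DynLib41.eval0 (A ⧸ Jp)).comp h
  have hr₀ : ∀ a, r₀ a = mkp (DynLib41.coef lam 0 a) := fun a => by
    rw [← DynLib41.conjOrbit_coeff lam mkp, ← hh]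
    exact (DynLib41.eval0_apply (k := k) (h a)).trans (DynLib41.coeff_toLaurent_natCast (h a) 0).symm
  have hzc : Dyn.conjOrbit k A lam (A ⧸ Jp) r₀ = (IsScalarTower.toAlgHom k (A ⧸ Jp) (A ⧸ Jp)[T;T⁻¹]).comp r₀ := by
    refine AlgHom.ext fun a => LaurentPolynomial.ext fun n => ?_
    rw [DynLib41.conjOrbit_coeff, hr₀, DynLib41.coef_coef]
    refine Eq.trans ?_ (LaurentPolynomial.C_apply (r₀ a) n).symm
    by_cases hn : n = 0
    · subst hn; rw [if_pos rfl, if_pos rfl, hr₀]
    · rw [if_neg (Ne.symm hn), if_neg hn, map_zero]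
  let r : A ⧸ Jz →ₐ[k] A ⧸ Jp := Ideal.Quotient.liftₐ Jz r₀ ((hz _ r₀).2 hzc)
  let π : A ⧸ Jp →ₐ[k] A ⧸ Jz :=
    Ideal.Quotient.liftₐ Jp (Ideal.Quotient.mkₐ k Jz) fun x hx =>
      Ideal.Quotient.eq_zero_iff_mem.2 (Ideal.mem_sup_left hx)
  have hπ : ∀ x, π (r x) = x := by
    intro x
    obtain ⟨a, rfl⟩ := Ideal.Quotient.mkₐ_surjective k Jz x
    show π (r₀ a) = _
    rw [hr₀]
    show Ideal.Quotient.mkₐ k Jz (DynLib41.coef lam 0 a) = _
    have h2 := (hz (A ⧸ Jz) (Ideal.Quotient.mkₐ k Jz)).1 fun y hy => Ideal.Quotient.eq_zero_iff_mem.2 hy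
    rw [← DynLib41.conjOrbit_coeff lam (Ideal.Quotient.mkₐ k Jz), h2]
    exact (LaurentPolynomial.C_apply (Ideal.Quotient.mkₐ k Jz a) 0).trans (if_pos rfl)
  refine ⟨Jz, fun e he => ?_, ?_, hz⟩
  · rcases hP (r e) (he.map r) with h1 | h1
    · left; rw [← hπ e, h1, map_zero]
    · right; rw [← hπ e, h1, map_one]
  · -- the unit point commutes
    let ε : A →ₐ[k] k := Bialgebra.counitAlgHom k A
    have h1 : Dyn.conjOrbit k A lam k ε = (IsScalarTower.toAlgHom k k k[T;T⁻¹]).comp ε := by
      have e1 : (toConv ε : WithConv (A →ₐ[k] k)) = 1 := by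
        refine WithConv.ofConv_injective (AlgHom.ext fun a => ?_)
        simp [ε, AlgHom.convOne_def]
      rw [DynLib41.conjOrbit_eq, e1, map_one]
      refine AlgHom.ext fun a => ?_
      simp [ε, AlgHom.convOne_def]
    let ev : A ⧸ Jz →ₐ[k] k := Ideal.Quotient.liftₐ Jz ε ((hz k ε).2 h1)
    exact ev.toRingHom.domain_nontrivial

end Hopf

/-- Morphisms between spectra come from algebra maps. -/
theorem exists_eq_spMap' {R R' : Type u} [CommRing R] [CommRing R'] [Algebra k R] [Algebra k R']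
    (f : sp k R' ⟶ sp k R) : ∃ φ : R →ₐ[k] R', f = spMap φ := by
  obtain ⟨ψ, hψ⟩ : ∃ ψ : CommRingCat.of R ⟶ CommRingCat.of R', Spec.map ψ = f.left :=
    ⟨Spec.preimage f.left, Spec.map_preimage _⟩
  have h : CommRingCat.ofHom (algebraMap k R) ≫ ψ = CommRingCat.ofHom (algebraMap k R') := by
    refine Spec.map_injective ?_
    rw [Spec.map_comp, hψ]
    exact Over.w f
  refine ⟨{ ψ.hom with commutes' := fun c => congrArg (fun m => m.hom c) h }, Over.OverMorphism.ext ?_⟩
  rw [← hψ]
  rfl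

/-- A point of an object over the field is the closed point of an affine test object. -/
theorem exists_test_point (C : Over (Spec (CommRingCat.of k))) (p : C.left) :
    ∃ (L : Type u) (_ : CommRing L) (_ : Algebra k L) (y : sp k L ⟶ C) (q : (sp k L).left), y.left q = p := by
  let L := C.left.residueField p
  obtain ⟨φ, hφ⟩ : ∃ φ : CommRingCat.of k ⟶ L, Spec.map φ = C.left.fromSpecResidueField p ≫ C.hom :=
    ⟨Spec.preimage _, Spec.map_preimage _⟩
  exact ⟨L, inferInstance, φ.hom.toAlgebra, Over.homMk (C.left.fromSpecResidueField p) hφ.symm,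
    IsLocalRing.closedPoint L, Scheme.fromSpecResidueField_apply _ _⟩

variable {Q C : Over (Spec (CommRingCat.of k))} [GrpObj Q] [GrpObj C]

/-- The centralizer of a one-parameter subgroup of a connected affine group is connected. -/
theorem connected_centralizer_gm [IsAffine Q.left] [LocallyOfFiniteType Q.hom] [ConnectedSpace Q.left]
    (l : Red.DS (Spec (CommRingCat.of k)) ℤ ⟶ Q) [IsMonHom l] {c : C ⟶ Q} (hC : Red.IsCentralizerOf l c) :
    ConnectedSpace C.left := by
  obtain ⟨A, _, _, _, eG, _⟩ := exists_coords Q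
  have hA : ∀ e : A, IsIdempotentElem e → e = 0 ∨ e = 1 := by
    haveI : ConnectedSpace (PrimeSpectrum A) :=
      (Scheme.homeoOfIso ((Over.forget _).mapIso eG)).connectedSpace_iff.mpr ‹ConnectedSpace Q.left›
    exact idem_trivial
  -- the subgroup in coordinates
  obtain ⟨d⟩ := nonempty_DS_iso k ℤ
  let eL : Grp.mk (sp k k[T;T⁻¹]) ≅ Grp.mk (Red.DS (Spec (CommRingCat.of k)) ℤ) :=
    spIso (MonoidAlgebra.toAdditiveBialgEquiv k k (Multiplicative ℤ)) ≪≫ d
  let eT : sp k k[T;T⁻¹] ≅ Red.DS (Spec (CommRingCat.of k)) ℤ := (Grp.forget _).mapIso eL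
  haveI : IsMonHom eT.hom := eL.hom.hom.isMonHom_hom
  haveI : IsMonHom eG.inv := inferInstance
  obtain ⟨lam, hlam⟩ := exists_bialgHom (eT.hom ≫ l ≫ eG.inv)
  have hl : eT.hom ≫ l = spMap (lam : A →ₐ[k] k[T;T⁻¹]) ≫ eG.hom := by
    rw [← hlam, Category.assoc, Category.assoc, Iso.inv_hom_id, Category.comp_id]
  obtain ⟨J, hJ, hne, hrep⟩ := exists_ideal_centralizer lam hA
  -- centralizing points kill the ideal
  have hLam : ∀ (R : Type u) [CommRing R] [Algebra k R],
      spMap ((AddMonoidAlgebra.mapAlgHom ℤ (Algebra.ofId k R) : k[T;T⁻¹] →ₐ[k] R[T;T⁻¹])) ≫ eT.hom ≫ l =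
        spMap (DynLib41.Lam lam R).ofConv ≫ eG.hom := by
    intro R _ _
    rw [hl, ← Category.assoc, spMap_comp]
    rfl
  have hiff : ∀ (R : Type u) [CommRing R] [Algebra k R] (g : A →ₐ[k] R),
      (∃ z, z ≫ c = spMap g ≫ eG.hom) ↔
        Dyn.conjOrbit k A lam R g = (IsScalarTower.toAlgHom k R R[T;T⁻¹]).comp g := by
    intro R _ _ g
    have horb : Dyn.conjOrbit k A lam R g = (IsScalarTower.toAlgHom k R R[T;T⁻¹]).comp g ↔
        Commute (DynLib41.post (DynLib41.const R) (toConv g)) (DynLib41.Lam lam R) := by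
      rw [DynLib41.conjOrbit_eq, DynLib41.orbit_apply, Commute, SemiconjBy]
      constructor
      · intro h
        have h' : DynLib41.Lam lam R * DynLib41.post (DynLib41.const R) (toConv g) * (DynLib41.Lam lam R)⁻¹ =
            DynLib41.post (DynLib41.const R) (toConv g) := WithConv.ofConv_injective h
        exact ((mul_inv_eq_iff_eq_mul).1 h').symm
      · intro h
        rw [show DynLib41.Lam lam R * DynLib41.post (DynLib41.const R) (toConv g) * (DynLib41.Lam lam R)⁻¹ =
          DynLib41.post (DynLib41.const R) (toConv g) from mul_inv_eq_iff_eq_mul.2 h.symm]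
        rfl
    rw [hC.2.2, horb]
    let x₀ : sp k R[T;T⁻¹] ⟶ sp k R := spMap (DynLib41.const R)
    let h₀ : sp k R[T;T⁻¹] ⟶ Red.DS (Spec (CommRingCat.of k)) ℤ :=
      spMap ((AddMonoidAlgebra.mapAlgHom ℤ (Algebra.ofId k R) : k[T;T⁻¹] →ₐ[k] R[T;T⁻¹])) ≫ eT.hom
    have hx : x₀ ≫ spMap g ≫ eG.hom = spMap (DynLib41.post (DynLib41.const R) (toConv g)).ofConv ≫ eG.hom := by
      rw [← Category.assoc, spMap_comp]
      rfl
    have hh : h₀ ≫ l = spMap (DynLib41.Lam lam R).ofConv ≫ eG.hom := by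
      rw [← hLam R, Category.assoc]
    constructor
    · intro hg
      have h1 := hg _ x₀ h₀
      rw [hx, hh, ← MonObj.mul_comp, ← MonObj.mul_comp, spMap_mul, spMap_mul, cancel_mono] at h1
      exact WithConv.ofConv_injective (spMap_injective h1)
    · intro hg X' x h
      refine AGFRoot.ext_sp fun R' _ _ j => ?_
      obtain ⟨φ, hφ⟩ := exists_eq_spMap' (j ≫ x)
      obtain ⟨ψ, hψ⟩ := exists_eq_spMap' (j ≫ h ≫ eT.inv)
      let v : R'ˣ := ((LaurentPolynomial.isUnit_T (R := k) 1).map ψ).unit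
      let Φ : R[T;T⁻¹] →ₐ[k] R' :=
        { LaurentPolynomial.eval₂ φ.toRingHom v with
          commutes' := fun c => by
            show LaurentPolynomial.eval₂ φ.toRingHom v (algebraMap k R[T;T⁻¹] c) = algebraMap k R' c
            rw [show algebraMap k R[T;T⁻¹] c = LaurentPolynomial.C (algebraMap k R c) from rfl,
              LaurentPolynomial.eval₂_C]
            exact φ.commutes c }
      have hΦ1 : Φ.comp (DynLib41.const R) = φ :=
        AlgHom.ext fun a => LaurentPolynomial.eval₂_C φ.toRingHom v a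
      have hΦ2 : Φ.comp (AddMonoidAlgebra.mapAlgHom ℤ (Algebra.ofId k R)) = ψ := by
        refine AddMonoidAlgebra.algHom_ext' (MonoidHom.ext_mint ?_) (by ext)
        show LaurentPolynomial.eval₂ φ.toRingHom v
          ((AddMonoidAlgebra.mapAlgHom ℤ (Algebra.ofId k R)) (LaurentPolynomial.T 1)) = ψ (LaurentPolynomial.T 1)
        rw [show (AddMonoidAlgebra.mapAlgHom ℤ (Algebra.ofId k R) : k[T;T⁻¹] →ₐ[k] R[T;T⁻¹]) (LaurentPolynomial.T 1) =
          LaurentPolynomial.T 1 from (AddMonoidAlgebra.mapAlgHom_single _ _ _).trans (congrArg _ (map_one _)), LaurentPolynomial.eval₂_T, zpow_one]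
        rfl
      have ex : j ≫ x = spMap Φ ≫ x₀ := by rw [hφ, spMap_comp, hΦ1]
      have eh : j ≫ h = spMap Φ ≫ h₀ := by
        rw [← Category.assoc, spMap_comp, hΦ2, ← hψ, Category.assoc, Category.assoc, eT.inv_hom_id,
          Category.comp_id]
      rw [MonObj.comp_mul, MonObj.comp_mul, ← Category.assoc j x, ← Category.assoc j h, ex, eh, Category.assoc,
        Category.assoc, ← MonObj.comp_mul, ← MonObj.comp_mul, hx, hh, ← MonObj.mul_comp, ← MonObj.mul_comp,
        spMap_mul, spMap_mul]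
      simp only [WithConv.toConv_ofConv]
      rw [hg.eq]
  -- the quotient maps onto the centralizer
  obtain ⟨w, hw⟩ := (hiff (A ⧸ J) (Ideal.Quotient.mkₐ k J)).2
    ((hrep (A ⧸ J) _).1 fun y hy => Ideal.Quotient.eq_zero_iff_mem.2 hy)
  haveI := hne
  haveI : ConnectedSpace (PrimeSpectrum (A ⧸ J)) := MultTypeLib.connectedSpace_of_idem hJ
  haveI : ConnectedSpace (sp k (A ⧸ J)).left := inferInstanceAs (ConnectedSpace (PrimeSpectrum (A ⧸ J)))
  haveI := hC.2.1
  refine Function.Surjective.connectedSpace (f := w.left) (fun p => ?_) w.left.continuous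
  obtain ⟨L, _, _, y, q, rfl⟩ := exists_test_point C p
  obtain ⟨g, hg⟩ := exists_eq_spMap (B := A) (y ≫ c ≫ eG.inv)
  have hg' : spMap g ≫ eG.hom = y ≫ c := by rw [← hg]; simp
  have hk := (hrep _ g).2 ((hiff _ g).1 ⟨y, hg'.symm⟩)
  let g' := Ideal.Quotient.liftₐ J g hk
  have e : spMap g' ≫ w = y := by
    rw [← cancel_mono c, Category.assoc, hw, ← hg', ← Category.assoc, spMap_comp]
    congr 2
  exact ⟨(spMap g').left q, by rw [← Scheme.Hom.comp_apply, ← Over.comp_left, e]⟩

end TorusCent19
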