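import Groth.Agent.TorusCent19.GmCent
import Groth.Agent.SgaFix20.Centralizer
import Groth.Agent.SgaFix20.DSProd

/-!
# The centralizer of a torus in a connected smooth affine group is connected
-/

set_option autoImplicit false
set_option linter.style.haveILetI false

universe u

open CategoryTheory CategoryTheory.Limits MonoidalCategory CartesianMonoidalCategory MonObj GrpObj AlgebraicGeometry

noncomputable section

namespace TorusCent19

open Groth.Agent

variable {k : Type u} [Field k] [IsAlgClosed k]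

local notation "𝕊" => Spec (CommRingCat.of k)

omit [IsAlgClosed k] in
theorem connected_centralizer_split : ∀ (r : ℕ) (Q C : Over 𝕊) [GrpObj Q] [GrpObj C] [IsAffine Q.left] [Smooth Q.hom]
    [ConnectedSpace Q.left] (t : Red.DS 𝕊 (Fin r → ℤ) ⟶ Q) [IsMonHom t] (c : C ⟶ Q),
    Red.IsCentralizerOf t c → ConnectedSpace C.left
  | 0, Q, C, _, _, _, _, _, t, _, c, hC => by
    have h1 : 𝟙 (Red.DS 𝕊 (Fin 0 → ℤ)) = 1 := by
      rw [← SgaFix20.DSmap_id, Subsingleton.elim (AddMonoidHom.id (Fin 0 → ℤ)) 0, SgaFix20.DSmap_zero]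
    have ht : t = 1 := by rw [← Category.id_comp t, h1, MonObj.one_comp]
    obtain ⟨z, hz⟩ := (hC.2.2 Q (𝟙 Q)).2 fun X' x h => by
      rw [ht, MonObj.comp_one, _root_.mul_one, _root_.one_mul]
    haveI := hC.2.1
    let e : Q ≅ C := ⟨z, c, hz, by rw [← cancel_mono c, Category.assoc, hz, Category.comp_id, Category.id_comp]⟩
    exact connectedSpace_of_iso e
  | r + 1, Q, C, _, _, _, _, _, t, _, c, hC => by
    let hd : (Fin (r + 1) → ℤ) →+ ℤ := Pi.evalAddMonoidHom (fun _ : Fin (r + 1) => ℤ) 0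
    let tl : (Fin (r + 1) → ℤ) →+ (Fin r → ℤ) :=
      AddMonoidHom.mk' (fun v i => v i.succ) fun _ _ => rfl
    let sd : ℤ →+ (Fin (r + 1) → ℤ) := AddMonoidHom.single (fun _ : Fin (r + 1) => ℤ) 0
    let cn : (Fin r → ℤ) →+ (Fin (r + 1) → ℤ) :=
      AddMonoidHom.mk' (fun v => Fin.cons 0 v) fun v w => by
        funext i
        refine Fin.cases ?_ (fun j => ?_) i <;> simp
    have hsum : sd.comp hd + cn.comp tl = AddMonoidHom.id _ := by
      refine AddMonoidHom.ext fun v => funext fun i => ?_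
      refine Fin.cases ?_ (fun j => ?_) i
      · simp [sd, hd, cn, tl]
      · simp [sd, hd, cn, tl, Fin.succ_ne_zero]
    haveI : IsMonHom (Red.DSmap 𝕊 hd) := S5427.isMonHom_DSmap 𝕊 _
    haveI : IsMonHom (Red.DSmap 𝕊 tl) := S5427.isMonHom_DSmap 𝕊 _
    let a : Red.DS 𝕊 ℤ ⟶ Q := Red.DSmap 𝕊 hd ≫ t
    let b : Red.DS 𝕊 (Fin r → ℤ) ⟶ Q := Red.DSmap 𝕊 tl ≫ t
    haveI : IsMonHom a := inferInstance
    haveI : IsMonHom b := inferInstance
    have hdec : (Red.DSmap 𝕊 sd ≫ Red.DSmap 𝕊 hd) * (Red.DSmap 𝕊 cn ≫ Red.DSmap 𝕊 tl) = 𝟙 _ := by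
      rw [SgaFix20.DSmap_comp, SgaFix20.DSmap_comp, SgaFix20.DSmap_mul, hsum, SgaFix20.DSmap_id]
    have hcomm : ∀ (X : Over 𝕊) (p q : X ⟶ Red.DS 𝕊 (Fin (r + 1) → ℤ)), Commute (p ≫ t) (q ≫ t) := fun X p q => by
      show (p ≫ t) * (q ≫ t) = (q ≫ t) * (p ≫ t)
      haveI : IsCommMonObj (Red.DS 𝕊 (Fin (r + 1) → ℤ)) := GrpSchLib.RankOne.isCommMonObj_bc _ _
      rw [← MonObj.mul_comp p q t, ← MonObj.mul_comp q p t, mul_comm p q]
    -- the centralizer of the first coordinate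
    haveI : IsSeparated Q.hom := inferInstance
    obtain ⟨C₁, _, c₁, hC₁, hcl, hsm⟩ := SgaFix20.exists_centralizer_smooth
      (torus_locally (isTorus_DS_int (k := k))) a
    haveI := hC₁.1
    haveI := hC₁.2.1
    haveI := hcl
    haveI := hsm
    haveI : IsAffine C₁.left := isAffine_of_isAffineHom c₁.left
    haveI := connected_centralizer_gm a hC₁
    -- the remaining coordinates
    obtain ⟨b₁, hb₁⟩ := (hC₁.2.2 _ b).2 fun X' x h => by
      simp only [a, b, ← Category.assoc]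
      exact hcomm X' _ _
    haveI : IsMonHom b₁ := isMonHom_of_fac c₁ b₁ b hb₁
    obtain ⟨c₂, hc₂⟩ := (hC₁.2.2 _ c).2 fun X' x h => by
      simp only [a, ← Category.assoc]
      exact (hC.2.2 C c).1 ⟨𝟙 C, Category.id_comp c⟩ X' x _
    haveI := hC.1
    haveI := hC.2.1
    haveI : IsMonHom c₂ := isMonHom_of_fac c₁ c₂ c hc₂
    haveI : Mono c₂ := mono_of_mono_fac hc₂
    refine connected_centralizer_split r C₁ C b₁ c₂ ⟨inferInstance, inferInstance, fun X g => ⟨?_, fun hg => ?_⟩⟩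
    · rintro ⟨z, rfl⟩ X' x h
      rw [← cancel_mono c₁, MonObj.mul_comp, MonObj.mul_comp, Category.assoc, Category.assoc, Category.assoc, hb₁,
        hc₂]
      simp only [b, ← Category.assoc h]
      exact (hC.2.2 X (z ≫ c)).1 ⟨z, rfl⟩ X' x _
    · obtain ⟨z, hz⟩ := (hC.2.2 X (g ≫ c₁)).2 fun X' x h => by
        have e1 : h ≫ t = (h ≫ Red.DSmap 𝕊 sd) ≫ a * (h ≫ Red.DSmap 𝕊 cn) ≫ b := by
          simp only [a, b, Category.assoc]
          rw [← MonObj.comp_mul, ← Category.assoc _ _ t, ← Category.assoc _ _ t,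
            ← MonObj.mul_comp (Red.DSmap 𝕊 sd ≫ Red.DSmap 𝕊 hd) (Red.DSmap 𝕊 cn ≫ Red.DSmap 𝕊 tl) t, hdec,
            Category.id_comp]
        rw [e1]
        refine Commute.mul_right ?_ ?_
        · exact (hC₁.2.2 X (g ≫ c₁)).1 ⟨g, rfl⟩ X' x _
        · have h2 := congrArg (fun m => m ≫ c₁) (hg X' x (h ≫ Red.DSmap 𝕊 cn))
          simp only [MonObj.mul_comp, Category.assoc, hb₁] at h2
          show (x ≫ g ≫ c₁) * ((h ≫ Red.DSmap 𝕊 cn) ≫ b) = ((h ≫ Red.DSmap 𝕊 cn) ≫ b) * (x ≫ g ≫ c₁)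
          simpa only [Category.assoc] using h2
      exact ⟨z, by rw [← cancel_mono c₁, Category.assoc, hc₂, hz]⟩

/-- The centralizer of a torus in a connected smooth affine group is connected. -/
theorem connected_centralizer_affine {Q T C : Over 𝕊} [GrpObj Q] [GrpObj T] [GrpObj C] [IsAffine Q.left]
    [Smooth Q.hom] [ConnectedSpace Q.left] (hT : Red.IsTorus T) (t : T ⟶ Q) [IsMonHom t] {c : C ⟶ Q}
    (hC : Red.IsCentralizerOf t c) : ConnectedSpace C.left := by
  obtain ⟨r, ⟨s⟩⟩ := AGFRoot.exists_isSplitTorusWith hT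
  let e : T ≅ Red.DS 𝕊 (Fin r → ℤ) := (Grp.forget _).mapIso s
  haveI : IsMonHom e.hom := s.hom.hom.isMonHom_hom
  refine connected_centralizer_split r Q C (e.inv ≫ t) c ⟨hC.1, hC.2.1, fun X g => (hC.2.2 X g).trans ?_⟩
  refine forall₂_congr fun X' x => ⟨fun h p => ?_, fun h p => ?_⟩
  · rw [← Category.assoc p]; exact h _
  · have := h (p ≫ e.hom)
    rwa [Category.assoc, e.hom_inv_id_assoc] at this

end TorusCent19
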