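import Groth.Agent.Obs28.Unip.Fixed
import Groth.Agent.AlgGrpQ.OneDim
import Groth.Agent.S7966
import Groth.Agent.GrpSchLib.AntiAffineBC
import Groth.Agent.TorusCent19.Base

/-!
# Groups of multiplicative type map trivially to groups without subtori
-/

set_option autoImplicit false
set_option linter.style.haveILetI false

universe u

open CategoryTheory CategoryTheory.Limits MonoidalCategory CartesianMonoidalCategory MonObj GrpObj AlgebraicGeometry
open TensorProduct WithConv

noncomputable section

namespace TorusCent19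

open Groth.Agent
open Groth.Agent.GrpSchLib.AffineHopf (sp spMap)

set_option backward.isDefEq.respectTransparency false in
/-- The comparison of the base change of an affine group, with its formula. -/
theorem exists_bc_sp_fst (k R A : Type u) [CommRing k] [CommRing R] [Algebra k R] [CommRing A] [HopfAlgebra k A] :
    ∃ e : Red.bc (Spec.map (CommRingCat.ofHom (algebraMap k R))) (sp k A) ≅ sp R (R ⊗[k] A),
      IsMonHom e.hom ∧ IsMonHom e.inv ∧ e.inv.left ≫ pullback.fst _ _ =
        Spec.map (CommRingCat.ofHom (Algebra.TensorProduct.includeRight (R := k) (A := R) (B := A)).toRingHom) := by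
  let g : Red.bc (Spec.map (CommRingCat.ofHom (algebraMap k R))) (sp k A) ⟶ sp R (R ⊗[k] A) :=
    (pullbackSymmetry .. ≪≫ pullbackSpecIso' k R A).hom.asOver (Spec (CommRingCat.of R))
  haveI : IsMonHom g := inferInstanceAs (IsMonHom
    ((pullbackSymmetry .. ≪≫ pullbackSpecIso' k R A).hom.asOver (Spec (CommRingCat.of R))))
  haveI : IsIso g.left := inferInstanceAs (IsIso (pullbackSymmetry .. ≪≫ pullbackSpecIso' k R A).hom)
  haveI : IsIso ((Over.forget _).map g) := ‹IsIso g.left›
  haveI : IsIso g := isIso_of_reflects_iso g (Over.forget _)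
  refine ⟨asIso g, ‹_›, inferInstance, ?_⟩
  have h : (asIso g).inv.left = (pullbackSymmetry .. ≪≫ pullbackSpecIso' k R A).inv := by
    rw [← cancel_epi g.left]
    show g.left ≫ (asIso g).inv.left = (pullbackSymmetry .. ≪≫ pullbackSpecIso' k R A).hom ≫ _
    rw [← Over.comp_left, Iso.hom_inv_id]
    exact (asIso g).hom_inv_id ▸ rfl
  rw [h, Iso.trans_inv]
  show ((pullbackSpecIso k R A).inv ≫ (pullbackSymmetry _ _).inv) ≫ pullback.fst _ _ = _
  rw [Category.assoc, pullbackSymmetry_inv_comp_fst, pullbackSpecIso_inv_snd]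
  rfl

/-- Global functions of the spectrum pulled back. -/
theorem appTop_specMap {A B : Type u} [CommRing A] [CommRing B] (f : A →+* B) (x : A) :
    (Spec.map (CommRingCat.ofHom f)).appTop ((Scheme.ΓSpecIso (CommRingCat.of A)).inv x) =
      (Scheme.ΓSpecIso (CommRingCat.of B)).inv (f x) := by
  have h := Scheme.ΓSpecIso_inv_naturality (CommRingCat.ofHom f)
  exact (congr($h x)).symm

/-- A global function which vanishes on a flat jointly surjective family vanishes. -/
theorem eq_zero_of_flat_family {Y : Scheme.{u}} {κ : Type u} {F : κ → Scheme.{u}} (p : ∀ i, F i ⟶ Y)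
    [∀ i, Flat (p i)] (hp : ∀ y, ∃ i z, (p i).base z = y) (s : Γ(Y, ⊤)) (h : ∀ i, (p i).appTop s = 0) : s = 0 := by
  haveI : Flat (Sigma.desc p) := IsZariskiLocalAtSource.sigmaDesc inferInstance
  haveI : Surjective (Sigma.desc p) := ⟨fun y => by
    obtain ⟨i, z, rfl⟩ := hp y
    exact ⟨(Sigma.ι F i).base z, by rw [← Scheme.Hom.comp_apply, Sigma.ι_desc]⟩⟩
  haveI := Flat.epi_of_flat_of_surjective (Sigma.desc p)
  refine GrpSchLib.AntiAffine.appTop_injective_of_epi (Sigma.desc p) ?_
  rw [map_zero]
  refine Scheme.zero_of_zero_cover _ (sigmaOpenCover F) fun i => ?_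
  show (Sigma.ι F i).appTop _ = 0
  rw [← ConcreteCategory.comp_apply, ← Scheme.Hom.comp_appTop, Sigma.ι_desc]
  exact h i

/-- A smooth connected affine group without subtori is unipotent. -/
theorem isUnipotent_coords {k : Type u} [Field k] [IsAlgClosed k] {A : Type u} [CommRing A] [HopfAlgebra k A]
    [Algebra.FiniteType k A] [Smooth (sp k A).hom] [ConnectedSpace ↥(sp k A).left]
    (hno : Red.HasNoSubtorus k (sp k A)) : HopfRep.IsUnipotent k A := by
  haveI : IsAffine (sp k A).left := inferInstanceAs (IsAffine (Spec (CommRingCat.of A)))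
  haveI := Obs28.isReduced_grp (sp k A)
  haveI : IsReduced (Spec (CommRingCat.of A)) := ‹IsReduced (sp k A).left›
  haveI : _root_.IsReduced (CommRingCat.of A) := (affine_isReduced_iff _).mp inferInstance
  haveI : _root_.IsReduced A := ‹_root_.IsReduced (CommRingCat.of A)›
  refine AlgGrpQ.isUnipotent_of_points fun g V _ _ _ hfin => ?_
  let e : WithConv (A →ₐ[k] k) ≃* Obs28.Rat (sp k A) := Spec.mapMulEquiv
  let π : Obs28.Rat (sp k A) →* (V ≃ₗ[k] V) :=
    (LinearMap.GeneralLinearGroup.generalLinearEquiv k V).toMonoidHom.comp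
      ((AlgGrpQ.rho k A V).comp e.symm.toMonoidHom).toHomUnits
  have hπ : Obs28.IsRegular π := fun m => by
    let emb : A →ₗ[k] GrpSchLib.Kunneth.Fn (sp k A) :=
      { toFun := fun a => (Scheme.ΓSpecIso (CommRingCat.of A)).inv a
        map_add' := map_add _
        map_smul' := fun c a => by
          rw [Algebra.smul_def, Algebra.smul_def, map_mul]
          congr 1
          exact congr($(Scheme.ΓSpecIso_inv_naturality (CommRingCat.ofHom (algebraMap k A))) c) }
    refine ⟨(TensorProduct.comm k V _) (emb.lTensor V (HopfRep.Comod.coact (k := k) (A := A) m)), fun y => ?_⟩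
    obtain ⟨f, rfl⟩ := e.surjective y
    have hf : ∀ a : A, Obs28.pfn (e f) (emb a) = f.ofConv a := fun a => by
      show (Scheme.ΓSpecIso (CommRingCat.of k)).hom
        ((Spec.map (CommRingCat.ofHom f.ofConv.toRingHom)).appTop ((Scheme.ΓSpecIso (CommRingCat.of A)).inv a)) = _
      rw [← CommRingCat.comp_apply, Scheme.ΓSpecIso_naturality]
      simp
    show AlgGrpQ.rho k A V (e.symm (e f)) m = _
    rw [e.symm_apply_apply, AlgGrpQ.rho_apply, ComodLib.actF_apply]
    induction HopfRep.Comod.coact (k := k) (A := A) m using TensorProduct.induction_on with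
    | zero => simp
    | tmul v a => simp [hf]
    | add p q hp hq => simp only [map_add, hp, hq]
  have h := Obs28.Unip.isNilpotent_rep_sub_one hno hπ (e g)
  rwa [show ((π (e g)).toLinearMap : Module.End k V) = AlgGrpQ.rho k A V g from by
    show AlgGrpQ.rho k A V (e.symm (e g)) = _
    rw [e.symm_apply_apply]] at h

variable {k : Type u} [Field k]

/-- The functions vanishing at the unit are killed by homomorphisms from groups of multiplicative type to unipotent
groups. -/
theorem kill_unip {A : Type u} [CommRing A] [HopfAlgebra k A] [Algebra.FiniteType k A] (hU : HopfRep.IsUnipotent k A)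
    {H : Over (Spec (CommRingCat.of k))} [GrpObj H] (hH : SGA3x.IsMultTypeFT H) (v : H ⟶ sp k A) [IsMonHom v]
    {x : A} (hx : Coalgebra.counit (R := k) x = 0) :
    v.left.appTop ((Scheme.ΓSpecIso (CommRingCat.of A)).inv x) = 0 := by
  classical
  obtain ⟨S'', f'', hflat, hsurj, -, hloc⟩ := hH
  choose U hmem M iM hM hiso using hloc
  choose B hB hsB hBU using fun s : S'' => exists_isAffineOpen_mem_and_subset (hmem s)
  let g : ∀ s, Spec Γ(S'', B s) ⟶ Spec (CommRingCat.of k) := fun s => (hB s).fromSpec ≫ f''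
  have hjs : ∀ y : H.left, ∃ s z, (pullback.fst H.hom (g s)).base z = y := by
    intro y
    obtain ⟨s, hs⟩ := hsurj.surj (H.hom.base y)
    obtain ⟨w, hw⟩ : s ∈ Set.range (hB s).fromSpec := (hB s).range_fromSpec ▸ hsB s
    obtain ⟨z, hz, -⟩ := Scheme.Pullback.exists_preimage_pullback (f := H.hom) (g := g s) y w (by
      rw [← hs, show (g s).base w = f''.base ((hB s).fromSpec.base w) from rfl]
      exact congrArg _ hw.symm)
    exact ⟨s, z, hz⟩
  haveI : ∀ s, Flat (pullback.fst H.hom (g s)) := fun s => inferInstance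
  refine eq_zero_of_flat_family (Y := H.left) (κ := ↥S'') (F := fun s => pullback H.hom (g s))
    (fun s => pullback.fst H.hom (g s)) hjs _ fun s => ?_
  letI : Algebra k Γ(S'', B s) := (Spec.preimage (g s)).hom.toAlgebra
  let R : CommRingCat.{u} := Γ(S'', B s)
  have hgf : Spec.map (CommRingCat.ofHom (algebraMap k R)) = g s := Spec.map_preimage _
  let t := (hB s).isoSpec.inv ≫ S''.homOfLE (hBU s)
  have ht : t ≫ (U s).ι ≫ f'' = g s := by simp [t, g, IsAffineOpen.isoSpec_inv_ι_assoc]
  letI := iM s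
  obtain ⟨e₀⟩ := hiso s
  obtain ⟨e₁⟩ := GrpSchLib.MultTypeBC.bc_congr ht H
  obtain ⟨e₂⟩ := GrpSchLib.MultTypeBC.bc_bc t ((U s).ι ≫ f'') H
  obtain ⟨e₃⟩ := GrpSchLib.MultTypeBC.bc_iso t e₀
  obtain ⟨e₄⟩ := GrpSchLib.MultTypeBC.bc_DS t (M s)
  obtain ⟨e₅⟩ := GrpSchLib.AffineHopf.nonempty_DS_iso R (M s)
  let E := e₅ ≪≫ e₄.symm ≪≫ e₃.symm ≪≫ e₂ ≪≫ e₁
  let φ₁ := E.hom.hom.hom ≫ (Over.pullback (g s)).map v
  haveI : IsMonHom E.hom.hom.hom := E.hom.hom.isMonHom_hom
  haveI : IsMonHom φ₁ := inferInstanceAs (IsMonHom (E.hom.hom.hom ≫ (Over.pullback (g s)).map v))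
  have key : ∀ {t' : Spec R ⟶ Spec (CommRingCat.of k)} (_ : t' = g s)
      (Z : Over (Spec R)) [GrpObj Z] (ψ : Z ⟶ Red.bc (g s) (sp k A)) [IsMonHom ψ],
      ∃ ψ' : Z ⟶ Red.bc t' (sp k A), IsMonHom ψ' ∧ ψ'.left ≫ pullback.fst _ _ = ψ.left ≫ pullback.fst _ _ := by
    rintro t' rfl Z _ ψ hψ
    exact ⟨ψ, hψ, rfl⟩
  obtain ⟨ψ, hψ, hψ'⟩ := key hgf _ φ₁
  obtain ⟨e, he₁, he₂, hf⟩ := exists_bc_sp_fst k R A
  obtain ⟨φ, hφ⟩ := GrpSchLib.AffineHopf.exists_bialgHom (ψ ≫ e.hom)
  have h0 : ψ.left ≫ pullback.fst _ _ =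
      Spec.map (CommRingCat.ofHom (φ : (R : Type u) ⊗[k] A →ₐ[R] MonoidAlgebra R (Multiplicative (M s))).toRingHom) ≫
      Spec.map (CommRingCat.ofHom (Algebra.TensorProduct.includeRight (R := k) (A := (R : Type u)) (B := A)).toRingHom) := by
    rw [← hf, show ψ = (ψ ≫ e.hom) ≫ e.inv by simp, hφ, Over.comp_left, Category.assoc]
    rfl
  have hzero : φ ((1 : R) ⊗ₜ[k] x) = 0 := by
    haveI : AddMonoid.FG (M s) := AddGroup.fg_iff_addMonoid_fg.mp (hM s)
    haveI : Monoid.FG (Multiplicative (M s)) := inferInstance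
    let E' := GrpSchLib.AffineHopf.scalarBialgEquiv k R (Multiplicative (M s))
    let EK := GrpSchLib.AffineHopf.scalarBialgEquiv k (AlgebraicClosure k) (Multiplicative (M s))
    have hdiag : HopfRep.IsDiagonalizable (AlgebraicClosure k)
        (AlgebraicClosure k ⊗[k] MonoidAlgebra k (Multiplicative (M s))) := by
      refine Submodule.eq_top_iff'.mpr fun z => ?_
      obtain ⟨y, rfl⟩ := EK.toEquiv.surjective z
      show EK y ∈ _
      induction y using MonoidAlgebra.induction_linear with
      | zero => rw [map_zero]; exact zero_mem _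
      | add p q hp hq => rw [map_add]; exact add_mem hp hq
      | single m c =>
        rw [show MonoidAlgebra.single m c = c • MonoidAlgebra.single m (1 : AlgebraicClosure k) by simp, map_smul]
        refine Submodule.smul_mem _ _ (Submodule.subset_span ?_)
        exact (MonoidAlgebra.isGroupLikeElem_single_one m).map EK
    have hT := S7966.result k (MonoidAlgebra k (Multiplicative (M s))) A hdiag hU R
      ((E' : MonoidAlgebra R (Multiplicative (M s)) →ₐc[R] _).comp φ) ((1 : R) ⊗ₜ[k] x)
    rw [TensorProduct.counit_tmul, CommSemiring.counit_apply, hx, zero_smul, map_zero] at hT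
    exact EquivLike.injective E' (hT.trans (map_zero E').symm)
  have hcomm : ((Over.pullback (g s)).map v).left ≫ pullback.fst _ _ = pullback.fst H.hom (g s) ≫ v.left :=
    pullback.lift_fst _ _ _
  have h1 := appTop_specMap ((φ : (R : Type u) ⊗[k] A →ₐ[R] MonoidAlgebra R (Multiplicative (M s))).toRingHom.comp
    (Algebra.TensorProduct.includeRight (R := k) (A := (R : Type u)) (B := A)).toRingHom) x
  rw [CommRingCat.ofHom_comp, Spec.map_comp, ← h0, hψ'] at h1
  have h2 : φ₁.left ≫ pullback.fst _ _ = E.hom.hom.hom.left ≫ pullback.fst H.hom (g s) ≫ v.left := by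
    rw [Over.comp_left, Category.assoc, hcomm]
  replace h1 : (E.hom.hom.hom.left ≫ pullback.fst H.hom (g s) ≫ v.left).appTop _ = _ := (congrArg (fun t => t.appTop ((Scheme.ΓSpecIso (CommRingCat.of A)).inv x)) h2).symm.trans h1
  erw [Scheme.Hom.comp_appTop, ConcreteCategory.comp_apply] at h1
  have h3 : (Scheme.ΓSpecIso (CommRingCat.of (MonoidAlgebra R (Multiplicative (M s))))).inv (φ ((1 : R) ⊗ₜ[k] x)) = 0 := by
    rw [hzero, map_zero]
  haveI : IsIso E.hom.hom.hom.left :=
    ((Over.forget _).mapIso ((Grp.forget _).mapIso E)).isIso_hom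
  have hinj : Function.Injective E.hom.hom.hom.left.appTop :=
    GrpSchLib.AntiAffine.appTop_injective_of_epi E.hom.hom.hom.left
  have h4 := hinj ((h1.trans h3).trans (map_zero _).symm)
  rw [Scheme.Hom.comp_appTop, ConcreteCategory.comp_apply] at h4
  exact h4

/-- A group of multiplicative type has no non-trivial homomorphism to a smooth connected affine group without
subtori. -/
theorem eq_one_of_noSubtorus [IsAlgClosed k] {H Q : Over (Spec (CommRingCat.of k))} [GrpObj H] [GrpObj Q]
    [IsAffine Q.left] [Smooth Q.hom] [ConnectedSpace Q.left] (hH : SGA3x.IsMultTypeFT H)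
    (hno : Red.HasNoSubtorus k Q) (v : H ⟶ Q) [IsMonHom v] : v = 1 := by
  obtain ⟨A, _, _, _, e, he⟩ := exists_coords Q
  haveI := he
  haveI : IsAffine (sp k A).left := inferInstanceAs (IsAffine (Spec (CommRingCat.of A)))
  haveI : IsIso e.hom.left := inferInstanceAs (IsIso ((Over.forget _).map e.hom))
  haveI : Smooth (sp k A).hom := by rw [← Over.w e.hom]; infer_instance
  haveI : ConnectedSpace (sp k A).left := connectedSpace_of_iso e.symm
  have hno' : Red.HasNoSubtorus k (sp k A) := fun T _ i _ _ hT => hno T (i ≫ e.hom) hT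
  have hU := isUnipotent_coords hno'
  have h : ∀ (a b : H ⟶ sp k A), IsMonHom a → IsMonHom b → a = b := fun a b ha hb => by
    refine Over.OverMorphism.ext (ext_of_isAffine (CommRingCat.hom_ext (RingHom.ext fun z => ?_)))
    obtain ⟨x, rfl⟩ : ∃ x, (Scheme.ΓSpecIso (CommRingCat.of A)).inv x = z :=
      (ConcreteCategory.bijective_of_isIso (Scheme.ΓSpecIso (CommRingCat.of A)).inv).2 z
    let c := Coalgebra.counit (R := k) x
    have hx : Coalgebra.counit (R := k) (x - algebraMap k A c) = 0 := by
      rw [map_sub, Bialgebra.counit_algebraMap, sub_self]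
    have main : ∀ (f : H ⟶ sp k A), IsMonHom f →
        f.left.appTop ((Scheme.ΓSpecIso (CommRingCat.of A)).inv x) =
          H.hom.appTop ((Scheme.ΓSpecIso (CommRingCat.of k)).inv c) := fun f hf => by
      haveI := hf
      have h1 := kill_unip hU hH f hx
      erw [map_sub, map_sub, sub_eq_zero] at h1
      rw [h1, ← Over.w f, Scheme.Hom.comp_appTop, ConcreteCategory.comp_apply]
      exact congrArg _ (appTop_specMap (algebraMap k A) c).symm
    exact (main a ha).trans (main b hb).symm
  haveI : IsMonHom e.inv := (Grp.mkIso' e).inv.hom.isMonHom_hom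
  haveI : IsMonHom (v ≫ e.inv) := inferInstance
  have hone : IsMonHom (1 : H ⟶ sp k A) :=
    GrpSchLib.RankOne.isMonHom_of_comp _ fun W a b => by simp [MonObj.comp_one]
  have h1 := h (v ≫ e.inv) 1 inferInstance hone
  refine (cancel_mono e.inv).mp (h1.trans ?_)
  exact (MonObj.one_comp e.inv).symm

end TorusCent19
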